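import Mathlib

/-! # 2-central involutions that are products of squares of elements of their centralizer -/

set_option autoImplicit false

namespace Cfsg.Agent.Dz

open Subgroup
open scoped Pointwise

variable {F F' : Type*} [Group F] [Group F']

/-- The subgroup generated by the squares of the elements commuting with `u`. -/
def SqC (u : F) : Subgroup F := closure {y | ∃ v, Commute v u ∧ y = v * v}

/-- `u` commutes with a conjugate of every 2-subgroup. -/
def Cen2 (u : F) : Prop := ∀ P : Subgroup F, IsPGroup 2 P → ∃ g : F, ∀ x ∈ P, Commute (g * x * g⁻¹) u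

variable (F) in
/-- Every 2-central involution is a product of squares of elements of its centralizer. -/
def Key : Prop := ∀ u : F, u ≠ 1 → u * u = 1 → Cen2 u → u ∈ SqC u

theorem sq_mem {u v : F} (h : Commute v u) : v * v ∈ SqC u := subset_closure ⟨v, h, rfl⟩

theorem self_mem_of_sq {u v : F} (h : v * v = u) : u ∈ SqC u :=
  h ▸ sq_mem ((Commute.refl v).mul_right (Commute.refl v))

theorem map_mem_SqC (φ : F →* F') {u y : F} (h : y ∈ SqC u) : φ y ∈ SqC (φ u) :=
  ((closure_le ((SqC (φ u)).comap φ)).2 (by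
    rintro _ ⟨v, hv, rfl⟩
    change φ (v * v) ∈ SqC (φ u)
    rw [map_mul]; exact sq_mem (hv.map φ))) h

theorem Key.of_equiv (e : F ≃* F') (h : Key F') : Key F := fun u h1 h2 h3 => by
  have := map_mem_SqC e.symm.toMonoidHom (h (e u) (by simpa using h1) (by rw [← map_mul, h2, map_one])
    fun P hP => by
      obtain ⟨g, hg⟩ := h3 (P.map e.symm.toMonoidHom) (hP.map _)
      exact ⟨e g, fun x hx => by simpa using (hg _ (mem_map_of_mem _ hx)).map e⟩)
  simpa using this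

theorem key_of (P : Subgroup F) (hP : IsPGroup 2 P)
    (h : ∀ u, u ≠ 1 → u * u = 1 → (∀ x ∈ P, Commute x u) → u ∈ SqC u) : Key F := fun u h1 h2 h3 => by
  obtain ⟨g, hg⟩ := h3 P hP
  have := map_mem_SqC (MulAut.conj g).toMonoidHom (h (g⁻¹ * u * g) (fun e => h1 (by rw [← mul_inv_cancel_left g u, ← mul_inv_cancel_right (g⁻¹ * u) g, e]; simp))
    (by rw [show g⁻¹ * u * g * (g⁻¹ * u * g) = g⁻¹ * (u * u) * g by group, h2]; simp) fun x hx => by
      simpa [mul_assoc] using (hg x hx).map (MulAut.conj g⁻¹))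
  simpa [mul_assoc] using this

/-- Every involution is a product of squares in its centralizer. -/
theorem key_of_all (h : ∀ u : F, u ≠ 1 → u * u = 1 → u ∈ SqC u) : Key F := fun u h1 h2 _ => h u h1 h2

theorem isPGroup_of_pow {P : Subgroup F} (k : ℕ) (h : ∀ x ∈ P, x ^ 2 ^ k = 1) : IsPGroup 2 P :=
  fun x => ⟨k, Subtype.ext (h x x.2)⟩

/-- A quaternion pair. -/
structure QP (a b : F) : Prop where
  four : a * a * (a * a) = 1
  sq : b * b = a * a
  cj : b * a * b⁻¹ = a⁻¹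

theorem QP.map {a b : F} (h : QP a b) (φ : F →* F') : QP (φ a) (φ b) :=
  ⟨by simp only [← map_mul, h.four, map_one], by simp only [← map_mul, h.sq],
    by simp only [← map_mul, ← map_inv, h.cj]⟩

theorem QP.pow_four {a b : F} (h : QP a b) {y : F} (hy : y ∈ closure {a, b}) : y ^ 2 ^ 2 = 1 := by
  have h0 : a ^ (4 : ℤ) = 1 := by rw [← h.four, show (4 : ℤ) = (4 : ℕ) from rfl, zpow_natCast]; simp [pow_succ, mul_assoc]
  have h1 : ∀ i : ℤ, b * a ^ i = a ^ (-i) * b := fun i => by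
    rw [← mul_inv_eq_iff_eq_mul, ← conj_zpow, h.cj]; simp
  have h2 : ∀ i : ℤ, a ^ i * b * (a ^ i * b) = a ^ (2 : ℤ) := fun i => by
    rw [mul_assoc, ← mul_assoc b, h1, mul_assoc, h.sq]; group
  have key : ∃ i : ℤ, y = a ^ i ∨ y = a ^ i * b := by
    induction hy using closure_induction with
    | mem x hx =>
      rcases hx with rfl | rfl
      exacts [⟨1, Or.inl (by simp)⟩, ⟨0, Or.inr (by simp)⟩]
    | one => exact ⟨0, Or.inl (by simp)⟩
    | mul x y _ _ hx hy =>
      obtain ⟨i, rfl | rfl⟩ := hx <;> obtain ⟨j, rfl | rfl⟩ := hy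
      · exact ⟨i + j, Or.inl (by group)⟩
      · exact ⟨i + j, Or.inr (by group)⟩
      · exact ⟨i - j, Or.inr (by rw [mul_assoc, h1]; group)⟩
      · exact ⟨i - j + 2, Or.inl (by rw [mul_assoc, ← mul_assoc b, h1, mul_assoc, h.sq]; group)⟩
    | inv x _ hx =>
      obtain ⟨i, rfl | rfl⟩ := hx
      · exact ⟨-i, Or.inl (by group)⟩
      · refine ⟨i - 2, Or.inr (inv_eq_of_mul_eq_one_left ?_)⟩
        rw [show a ^ (i - 2) * b * (a ^ i * b) = a ^ (-2 : ℤ) * (a ^ i * b * (a ^ i * b)) by group, h2]; group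
  obtain ⟨i, rfl | rfl⟩ := key
  · rw [← zpow_natCast, ← zpow_mul, mul_comm, zpow_mul]; norm_num [h0]
  · rw [show (2 : ℕ) ^ 2 = 2 * 2 by norm_num, pow_mul, pow_two (a ^ i * b), h2, ← zpow_natCast, ← zpow_mul]
    exact h0

/-- The product of commuting subgroups of exponent dividing `2 ^ k`. -/
theorem pow_eq_one_of_iSup {J : Type*} (Q : J → Subgroup F) (k : ℕ) (hQ : ∀ j, ∀ x ∈ Q j, x ^ k = 1)
    (hc : ∀ i j, i ≠ j → ∀ x ∈ Q i, ∀ y ∈ Q j, Commute x y) {x : F} (hx : x ∈ ⨆ j, Q j) : x ^ k = 1 := by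
  classical
  obtain ⟨s, hs⟩ : ∃ s : Finset J, x ∈ ⨆ j ∈ s, Q j := by
    refine iSup_induction Q (C := fun x => ∃ s : Finset J, x ∈ ⨆ j ∈ s, Q j) hx
      (fun j x hx => ⟨{j}, by simpa using hx⟩) ⟨∅, one_mem _⟩ ?_
    rintro x y ⟨s, hs⟩ ⟨t, ht⟩
    exact ⟨s ∪ t, by rw [Finset.iSup_union]; exact mul_mem_sup hs ht⟩
  clear hx
  induction s using Finset.induction_on generalizing x with
  | empty => simp_all
  | insert j s hj ih =>
    rw [Finset.iSup_insert] at hs
    have h1 : ∀ a ∈ Q j, ∀ b ∈ ⨆ i ∈ s, Q i, Commute a b := fun a ha b hb =>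
      (mem_centralizer_singleton_iff.1 ((iSup₂_le fun i hi y hy => mem_centralizer_singleton_iff.2
        (hc i j (fun e => hj (e ▸ hi)) y hy a ha).eq : ⨆ i ∈ s, Q i ≤ centralizer {a}) hb)).symm
    have h2 : x ∈ (Q j : Set F) * ((⨆ i ∈ s, Q i : Subgroup F) : Set F) := by
      rw [← coe_mul_of_left_le_normalizer_right _ _ fun a ha => centralizer_le_normalizer _
        fun b hb => (h1 a ha b hb).eq.symm]
      exact hs
    obtain ⟨a, ha, b, hb, rfl⟩ := h2
    rw [(h1 a ha b hb).mul_pow, hQ j a ha, ih hb, mul_one]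

/-- Commuting involutions. -/
theorem key_of_comm {J : Type*} (y : J → F) (h2 : ∀ j, y j * y j = 1) (hc : ∀ i j, Commute (y i) (y j))
    (h : ∀ u, u ≠ 1 → u * u = 1 → (∀ j, Commute (y j) u) → u ∈ SqC u) : Key F := by
  refine key_of (⨆ j, zpowers (y j)) (isPGroup_of_pow 1 fun x hx => pow_eq_one_of_iSup _ _ ?_ ?_ hx)
    fun u h1 h3 h4 => h u h1 h3 fun j => h4 _ (mem_iSup_of_mem j (mem_zpowers _))
  · rintro j _ ⟨i, rfl⟩
    rw [← zpow_natCast, ← zpow_mul, mul_comm, zpow_mul, zpow_natCast, pow_one, pow_two, h2, one_zpow]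
  · rintro i j - _ ⟨m, rfl⟩ _ ⟨n, rfl⟩
    exact (hc i j).zpow_zpow m n

/-- Commuting quaternion pairs. -/
theorem key_of_qp {J : Type*} (a b : J → F) (hq : ∀ j, QP (a j) (b j))
    (hc : ∀ i j, i ≠ j → Commute (a i) (a j) ∧ Commute (a i) (b j) ∧ Commute (b i) (b j))
    (h : ∀ u, u ≠ 1 → u * u = 1 → (∀ j, Commute (a j) u ∧ Commute (b j) u) → u ∈ SqC u) : Key F := by
  refine key_of (⨆ j, closure {a j, b j}) (isPGroup_of_pow 2 fun x hx =>
    pow_eq_one_of_iSup _ _ (fun j _ hx => (hq j).pow_four hx) (fun i j hij x hx y hy => ?_) hx)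
    fun u h1 h3 h4 => h u h1 h3 fun j => ⟨h4 _ (mem_iSup_of_mem j (subset_closure (by simp))),
      h4 _ (mem_iSup_of_mem j (subset_closure (by simp)))⟩
  refine mem_centralizer_singleton_iff.1 ((closure_le (centralizer {y})).2 (fun x hx => ?_) hx)
  refine mem_centralizer_singleton_iff.2 (mem_centralizer_singleton_iff.1
    ((closure_le (centralizer {x})).2 (fun y hy => mem_centralizer_singleton_iff.2 ?_) hy)).symm
  rcases hx with rfl | rfl <;> rcases hy with rfl | rfl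
  exacts [(hc i j hij).1.eq.symm, (hc i j hij).2.1.eq.symm, (hc j i hij.symm).2.1.eq, (hc i j hij).2.2.eq.symm]

/-- Two squares with sum `-1`, fixed by all powers of the Frobenius map. -/
theorem exists_sq_add_sq (K : Type*) [Field K] (p : ℕ) [Fact p.Prime] [CharP K p] :
    ∃ s r : K, r ≠ 0 ∧ s ^ 2 + r ^ 2 = -1 ∧ ∀ e : ℕ, s ^ p ^ e = s ∧ r ^ p ^ e = r := by
  obtain ⟨s, r, h⟩ := ZMod.sq_add_sq p (-1)
  have h1 : ∀ (x : ZMod p) (e : ℕ), ZMod.castHom dvd_rfl K x ^ p ^ e = ZMod.castHom dvd_rfl K x := fun x e => by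
    rw [← map_pow, ZMod.pow_card_pow]
  have h2 : ZMod.castHom dvd_rfl K s ^ 2 + ZMod.castHom dvd_rfl K r ^ 2 = -1 := by
    rw [← map_pow, ← map_pow, ← map_add, h, map_neg, map_one]
  by_cases h0 : ZMod.castHom dvd_rfl K r = 0
  · refine ⟨_, _, fun e => ?_, (add_comm _ _).trans h2, fun e => ⟨h1 r e, h1 s e⟩⟩
    rw [h0, e] at h2; simp at h2
  · exact ⟨_, _, h0, h2, fun e => ⟨h1 s e, h1 r e⟩⟩

end Cfsg.Agent.Dz
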