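import Mathlib
import Cfsg.Agent.Dz.Defs
import Cfsg.Agent.Cl.PSL2Pairs
import Cfsg.Agent.Cl.LinearBasic

/-! # Involutions of alternating groups and of `PSL₂(q)` as products of squares -/

set_option autoImplicit false

namespace Cfsg.Agent.Dz

open Equiv Equiv.Perm Subgroup
open scoped MatrixGroups

namespace AltX

variable {α : Type*} [Fintype α] [DecidableEq α]

omit [Fintype α] in
theorem comm_swap {f : Perm α} {x y : α} (h : swap (f x) (f y) = swap x y) :
    Commute (swap x y) f := by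
  rw [Commute, SemiconjBy, mul_swap_eq_swap_mul, h]

omit [Fintype α] in
theorem swap_comm_swap {a b x y : α} (h1 : x ≠ a) (h2 : x ≠ b) (h3 : y ≠ a) (h4 : y ≠ b) :
    Commute (swap x y) (swap a b) :=
  comm_swap (by rw [swap_apply_of_ne_of_ne h1 h2, swap_apply_of_ne_of_ne h3 h4])

theorem exists_tau (hn : 6 ≤ Fintype.card α) {u : Perm α} (hu : ∀ x, u (u x) = x) (S : Finset α)
    (hS : S.card ≤ 4) (hi : ∀ x, u x ∈ S → x ∈ S) :
    ∃ x y, x ≠ y ∧ x ∉ S ∧ y ∉ S ∧ Commute (swap x y) u := by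
  by_cases h : ∃ x, x ∉ S ∧ u x ≠ x
  · obtain ⟨x, hx, hx'⟩ := h
    exact ⟨x, u x, hx'.symm, hx, mt (hi x) hx, comm_swap (by rw [hu, swap_comm])⟩
  push Not at h
  obtain ⟨x, hx, y, hy, hxy⟩ := Finset.one_lt_card.1 (show 1 < Sᶜ.card by
    rw [Finset.card_compl]; omega)
  rw [Finset.mem_compl] at hx hy
  exact ⟨x, y, hxy, hx, hy, comm_swap (by rw [h x hx, h y hy])⟩

theorem exists_v (hn : 6 ≤ Fintype.card α) {u : Perm α} (hu : ∀ x, u (u x) = x) {a c : α}
    (ha : u a ≠ a) (hc : u c ≠ c) (h1 : c ≠ a) (h2 : c ≠ u a) :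
    ∃ v : Perm α, sign v = 1 ∧ Commute v u ∧ v * v = swap a (u a) * swap c (u c) := by
  have h3 : u c ≠ a := fun e => h2 (by rw [← e, hu])
  have h4 : u c ≠ u a := fun e => h1 (u.injective e)
  obtain ⟨x, y, hxy, hx, hy, hτ⟩ := exists_tau hn hu {a, u a, c, u c} Finset.card_le_four
    fun x hx => by
      simp only [Finset.mem_insert, Finset.mem_singleton] at hx ⊢
      rcases hx with e | e | e | e
      · exact Or.inr (Or.inl (by rw [← e, hu]))
      · exact Or.inl (u.injective e)
      · exact Or.inr (Or.inr (Or.inr (by rw [← e, hu])))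
      · exact Or.inr (Or.inr (Or.inl (u.injective e)))
  simp only [Finset.mem_insert, Finset.mem_singleton, not_or] at hx hy
  have hr : Commute (swap a (u a)) u := comm_swap (by rw [hu, swap_comm])
  have hs : Commute (swap a c * swap (u a) (u c)) u := by
    rw [Commute, SemiconjBy, ← mul_assoc u, mul_swap_eq_swap_mul u, mul_assoc _ u,
      mul_swap_eq_swap_mul u, hu, hu, ← mul_assoc, (swap_comm_swap ha.symm h3.symm h2 hc.symm).eq]
  have ub := hu a
  have ud := hu c
  generalize u a = b at *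
  generalize u c = d at *
  have c1 : Commute (swap x y) (swap a b * (swap a c * swap b d)) :=
    (swap_comm_swap hx.1 hx.2.1 hy.1 hy.2.1).mul_right
      ((swap_comm_swap hx.1 hx.2.2.1 hy.1 hy.2.2.1).mul_right
        (swap_comm_swap hx.2.1 hx.2.2.2 hy.2.1 hy.2.2.2))
  refine ⟨swap a b * (swap a c * swap b d) * swap x y, ?_, (hr.mul_left hs).mul_left hτ, ?_⟩
  · simp only [map_mul, sign_swap ha.symm, sign_swap h1.symm, sign_swap h4.symm, sign_swap hxy]
    simp
  · rw [c1.mul_mul_mul_comm, swap_mul_self, mul_one]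
    ext z
    simp only [Perm.mul_apply]
    by_cases e1 : z = a
    · subst e1; simp [swap_apply_def, *, ha.symm, h1.symm, h2.symm, h3.symm, h4.symm, hc.symm]
    by_cases e2 : z = b
    · subst e2; simp [swap_apply_def, *, ha.symm, h1.symm, h2.symm, h3.symm, h4.symm, hc.symm]
    by_cases e3 : z = c
    · subst e3; simp [swap_apply_def, *, ha.symm, h1.symm, h2.symm, h3.symm, h4.symm, hc.symm]
    by_cases e4 : z = d
    · subst e4; simp [swap_apply_def, *, ha.symm, h1.symm, h2.symm, h3.symm, h4.symm, hc.symm]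
    simp [swap_apply_def, *]

theorem mem_SqC (hn : 6 ≤ Fintype.card α) (u : alternatingGroup α) (hu : ∀ x, u.1 (u.1 x) = x)
    (k : ℕ) : ∀ w : alternatingGroup α, w.1.support.card = k →
      (∀ x, w.1 x = x ∨ w.1 x = u.1 x) → w ∈ SqC u := by
  induction k using Nat.strong_induction_on with
  | _ k ih =>
  rintro w rfl hw
  by_cases h1 : w = 1
  · rw [h1]; exact one_mem _
  have ww : ∀ x, w.1 x ≠ x → w.1 x = u.1 x ∧ u.1 x ≠ x ∧ w.1 (u.1 x) = x := fun x hx => by
    have e := (hw x).resolve_left hx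
    refine ⟨e, e ▸ hx, ?_⟩
    rcases hw (u.1 x) with e' | e'
    · exact absurd (w.1.injective (e'.trans e.symm)) (e ▸ hx)
    · rw [e', hu]
  obtain ⟨a, ha⟩ : ∃ a, w.1 a ≠ a := by
    by_contra h
    push Not at h
    exact h1 (Subtype.ext (Equiv.ext h))
  obtain ⟨a1, a2, a3⟩ := ww a ha
  obtain ⟨c, hc⟩ : ∃ c, w.1 c ≠ swap a (u.1 a) c := by
    by_contra h
    push Not at h
    have := mem_alternatingGroup.1 w.2
    rw [show w.1 = swap a (u.1 a) from Equiv.ext h, sign_swap a2.symm] at this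
    exact absurd this (by decide)
  have c1 : c ≠ a := by rintro rfl; exact hc (by rw [swap_apply_left, a1])
  have c2 : c ≠ u.1 a := by rintro rfl; exact hc (by rw [swap_apply_right, a3])
  rw [swap_apply_of_ne_of_ne c1 c2] at hc
  obtain ⟨b1, b2, b3⟩ := ww c hc
  obtain ⟨v, v1, v2, v3⟩ := exists_v hn hu a2 b2 c1 c2
  let v' : alternatingGroup α := ⟨v, mem_alternatingGroup.2 v1⟩
  have h3 : u.1 c ≠ a := fun e => c2 (by rw [← e, hu])
  have h4 : u.1 c ≠ u.1 a := fun e => c1 (u.1.injective e)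
  have key : ∀ x, (w * (v' * v')).1 x = x ∨ (x ≠ a ∧ (w * (v' * v')).1 x = w.1 x) := fun x => by
    change (w.1 * (v * v)) x = x ∨ (x ≠ a ∧ (w.1 * (v * v)) x = w.1 x)
    rw [v3]
    simp only [Perm.mul_apply]
    by_cases e1 : x = a
    · subst e1
      exact Or.inl (by rw [swap_apply_of_ne_of_ne c1.symm h3.symm, swap_apply_left, a3])
    by_cases e2 : x = u.1 a
    · subst e2
      exact Or.inl (by rw [swap_apply_of_ne_of_ne c2.symm h4.symm, swap_apply_right, a1])
    by_cases e3 : x = c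
    · subst e3
      exact Or.inl (by rw [swap_apply_left, swap_apply_of_ne_of_ne h3 h4, b3])
    by_cases e4 : x = u.1 c
    · subst e4
      exact Or.inl (by rw [swap_apply_right, swap_apply_of_ne_of_ne c1 c2, b1])
    exact Or.inr ⟨e1, by rw [swap_apply_of_ne_of_ne e3 e4, swap_apply_of_ne_of_ne e1 e2]⟩
  refine (mul_mem_cancel_right (sq_mem (v := v') (Subtype.ext v2))).1 (ih _ ?_ _ rfl fun x => ?_)
  · refine Finset.card_lt_card ⟨fun x hx => ?_, fun h => ?_⟩
    · rw [mem_support] at hx ⊢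
      exact ((key x).resolve_left hx).2 ▸ hx
    · have := mem_support.1 (h (mem_support.2 ha))
      exact ((key a).resolve_left this).1 rfl
  · rcases key x with e | e
    · exact Or.inl e
    · rw [e.2]; exact hw x

end AltX

theorem key_alt {n : ℕ} (hn : 6 ≤ n) : Key (alternatingGroup (Fin n)) :=
  key_of_all fun u _ h2 => AltX.mem_SqC (by simpa using hn) u
    (fun x => congrArg (fun w : alternatingGroup (Fin n) => w.1 x) h2) _ u rfl fun _ => Or.inr rfl

theorem key_psl2 {K : Type*} [Field K] [Fintype K] (h : Fintype.card K % 8 = 1 ∨ Fintype.card K % 8 = 7) :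
    Key (Matrix.ProjectiveSpecialLinearGroup (Fin 2) K) := by
  have : Fact (Nat.Prime 2) := ⟨Nat.prime_two⟩
  obtain ⟨s, hs⟩ := (FiniteField.isSquare_two_iff (F := K)).2 (by omega)
  have two : (2 : K) ≠ 0 := fun e => by
    have := FiniteField.even_card_of_char_two (F := K) ((ringChar.spec K 2).1 (by exact_mod_cast e) |>
      fun d => ((Nat.prime_two.eq_one_or_self_of_dvd _ d).resolve_left CharP.ringChar_ne_one))
    omega
  have s0 : s ≠ 0 := by rintro rfl; exact two (by simpa using hs)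
  let M : SL(2, K) := ⟨!![0, -1; 1, s], by simp [Matrix.det_fin_two_of]⟩
  let N : SL(2, K) := ⟨!![-1, -s; s, 1], by simp [Matrix.det_fin_two_of]; linear_combination -hs⟩
  have e1 : M * M = N := Subtype.ext (by
    rw [Matrix.SpecialLinearGroup.coe_mul]
    ext i j
    fin_cases i <;> fin_cases j <;> simp [M, N]
    linear_combination -hs)
  have e2 : N * N = -1 := Subtype.ext (by
    rw [Matrix.SpecialLinearGroup.coe_mul]
    ext i j
    fin_cases i <;> fin_cases j <;> simp [N]
    all_goals linear_combination hs)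
  let m : Matrix.ProjectiveSpecialLinearGroup (Fin 2) K := QuotientGroup.mk M
  have hm : orderOf (m * m) = 2 := by
    refine orderOf_eq_prime ?_ fun e => ?_
    · change QuotientGroup.mk' _ (M * M) ^ 2 = 1
      rw [← map_pow, QuotientGroup.mk'_apply, QuotientGroup.eq_one_iff, Cl.L2.mem_center_iff_pm, e1, sq,
        e2]
      exact Or.inr rfl
    · change QuotientGroup.mk (M * M) = 1 at e
      rw [QuotientGroup.eq_one_iff, Cl.L2.mem_center_iff_pm, e1] at e
      rcases e with e | e <;>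
      · have := congrFun (congrFun (congrArg Subtype.val e) 1) 0
        simp [N, s0] at this
  refine key_of_all fun u h1 h2 => ?_
  obtain ⟨g, rfl⟩ := isConj_iff.1 (Cl.L2.isConjS_of_orderOf_two hm
    (orderOf_eq_prime (by rw [sq, h2]) h1))
  exact self_mem_of_sq (v := g * m * g⁻¹) (by group)

theorem card_le_psl2 {K : Type*} [Field K] [Fintype K] (h : Fintype.card K % 8 = 3 ∨ Fintype.card K % 8 = 5)
    (P : Subgroup (Matrix.ProjectiveSpecialLinearGroup (Fin 2) K)) (hP : IsPGroup 2 P) : Nat.card P ∣ 4 := by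
  have : Fact (Nat.Prime 2) := ⟨Nat.prime_two⟩
  obtain ⟨n, hn⟩ := hP.exists_card_eq
  have h1 := Cl.card_psl_two_mul (F := K)
  rw [Nat.card_eq_fintype_card (α := K)] at h1
  have h2 := P.card_subgroup_dvd_card
  generalize Fintype.card K = q at h h1
  rw [hn] at h2 ⊢
  by_contra h3
  have h4 : 3 ≤ n := by
    by_contra h4
    exact h3 (pow_dvd_pow 2 (show n ≤ 2 by omega))
  obtain ⟨c, hc⟩ := (pow_dvd_pow 2 h4).trans h2
  rw [Nat.gcd_eq_left (by omega), hc] at h1
  obtain ⟨k, rfl | rfl⟩ : ∃ k, q = 8 * k + 3 ∨ q = 8 * k + 5 := ⟨q / 8, by omega⟩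
  · rw [show (8 * k + 3) ^ 2 - 1 = 64 * k ^ 2 + 48 * k + 8 from Nat.sub_eq_of_eq_add (by ring)] at h1
    have : 2 * c = 2 * (32 * k ^ 3 + 36 * k ^ 2 + 13 * k + 1) + 1 := by nlinarith
    omega
  · rw [show (8 * k + 5) ^ 2 - 1 = 64 * k ^ 2 + 80 * k + 24 from Nat.sub_eq_of_eq_add (by ring)] at h1
    have : 2 * c = 2 * (32 * k ^ 3 + 60 * k ^ 2 + 37 * k + 7) + 1 := by nlinarith
    omega

end Cfsg.Agent.Dz
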