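import Mathlib
import Cfsg.Agent.Dz.Defs
import Cfsg.Agent.GT.TransferCocycle
import Cfsg.Agent.Inv.Classes

/-! # An involution with centralizer `⟨t⟩ × F` of odd index -/

set_option autoImplicit false

namespace Cfsg.Agent.Dz

open Subgroup

universe u

variable {G : Type u} [Group G] {t : G} {F : Subgroup G}

/-- The centralizer of the involution `t` is `⟨t⟩ × F`, of odd index, `F` simple and not commutative. -/
structure Hy (t : G) (F : Subgroup G) : Prop where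
  tt : t * t = 1
  nm : t ∉ F
  cm : ∀ f ∈ F, Commute f t
  dec : ∀ g, Commute g t → g ∈ F ∨ t * g ∈ F
  odd : ¬ 2 ∣ (centralizer ({t} : Set G)).index
  sim : IsSimpleGroup F
  nab : ¬ IsMulCommutative F

theorem thompson_ext [Finite G] {H T C : Subgroup G} {d : G} (hH : ¬ 2 ∣ H.index) (hT : T.relIndex H = 2)
    (hd : d ^ 2 = 1) (hC : IsPGroup 2 C) (c : ∀ x ∈ C, x * d = d * x) :
    (∃ M : Subgroup G, M.index = 2 ∧ d ∉ M) ∨
      ∃ t, t⁻¹ * d * t ∈ H ∧ t⁻¹ * d * t ∈ T ∧ ∀ x ∈ C, t⁻¹ * x * t ∈ H := by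
  have : (T.subgroupOf H).Normal := normal_of_index_eq_two hT
  have : IsCyclic (H ⧸ T.subgroupOf H) := isCyclic_of_prime_card (p := 2) hT
  let _ : CommGroup (H ⧸ T.subgroupOf H) := IsCyclic.commGroup
  by_cases hτ : MonoidHom.transfer (QuotientGroup.mk' (T.subgroupOf H)) d = 1
  · obtain ⟨t, h1, h2, h3⟩ := GT.Tr.thompson_transfer (QuotientGroup.mk' (T.subgroupOf H)) hH
      GT.Tr.eq_of_sq_eq_one_of_isCyclic hd hτ hC c
    exact Or.inr ⟨t, h1, by simpa [mem_subgroupOf] using (QuotientGroup.eq_one_iff _).1 h2, h3⟩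
  · refine Or.inl ⟨(MonoidHom.transfer (QuotientGroup.mk' (T.subgroupOf H))).ker, ?_, hτ⟩
    have h1 : (MonoidHom.transfer (QuotientGroup.mk' (T.subgroupOf H))).ker.index ∣ 2 := by
      rw [index_ker, ← hT]
      exact card_subgroup_dvd_card _
    refine ((Nat.dvd_prime Nat.prime_two).1 h1).resolve_left fun h => hτ ?_
    rw [index_eq_one] at h
    rw [← MonoidHom.mem_ker, h]
    trivial

namespace Hy

variable (h : Hy t F)
include h

theorem ne_one : t ≠ 1 := fun e => h.nm (e ▸ one_mem F)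

theorem conj_ne (n : G) : n⁻¹ * t * n ≠ 1 := fun e =>
  h.ne_one (by rw [← mul_inv_cancel_left n t, ← mul_inv_cancel_right (n⁻¹ * t) n, e]; simp)

theorem le_cen : F ≤ centralizer {t} := fun f hf => mem_centralizer_singleton_iff.2 (h.cm f hf)

theorem sq_mem {g : G} (hg : Commute g t) : g * g ∈ F := by
  rcases h.dec g hg with e | e
  · exact mul_mem e e
  · have := mul_mem e e
    rwa [mul_assoc, ← mul_assoc g, hg.eq, mul_assoc, ← mul_assoc t t, h.tt, one_mul] at this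

theorem conj_eq {g : G} (hg : Commute g t) : ∃ f ∈ F, ∀ x ∈ F, g * x * g⁻¹ = f * x * f⁻¹ := by
  rcases h.dec g hg with e | e
  · exact ⟨g, e, fun _ _ => rfl⟩
  · refine ⟨_, e, fun x hx => ?_⟩
    have := ((hg.mul_left (h.cm x hx)).mul_left hg.inv_left).eq
    calc _ = t * (g * x * g⁻¹) * t⁻¹ := by rw [← this, mul_inv_cancel_right]
      _ = _ := by group

theorem relIndex : F.relIndex (centralizer {t}) = 2 := by
  refine relIndex_eq_two_iff.2 ⟨t, mem_centralizer_singleton_iff.2 rfl, fun b hb => ?_⟩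
  have hb : Commute b t := mem_centralizer_singleton_iff.1 hb
  rw [hb.eq]
  rcases h.dec b hb with e | e
  · exact Or.inr ⟨e, fun e' => h.nm (by simpa using mul_mem e' (inv_mem e))⟩
  · exact Or.inl ⟨e, fun e' => h.nm (by simpa using mul_mem e (inv_mem e'))⟩

theorem le_of_normal {A : Subgroup G} (hA : ∀ f ∈ F, ∀ a ∈ A, a ∈ F → f * a * f⁻¹ ∈ A) {a : G} (ha : a ∈ A)
    (hF : a ∈ F) (h1 : a ≠ 1) : F ≤ A := by
  have := h.sim
  have hn : (A.subgroupOf F).Normal := ⟨fun x hx f => hA f f.2 x hx x.2⟩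
  rcases hn.eq_bot_or_eq_top with e | e
  · have h2 : (⟨a, hF⟩ : F) ∈ A.subgroupOf F := ha
    rw [e, mem_bot] at h2
    exact absurd (congrArg Subtype.val h2) h1
  · exact subgroupOf_eq_top.1 e

theorem eq_one {a : G} (hF : a ∈ F) (hc : ∀ f ∈ F, Commute f a) : a = 1 := by
  by_contra h1
  have := h.le_of_normal (A := centralizer F) (fun f hf x hx _ => by
    rw [hx f hf, mul_inv_cancel_right]; exact hx) (fun f hf => hc f hf) hF h1
  exact h.nab ⟨⟨fun x y => Subtype.ext (this y.2 x x.2)⟩⟩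

theorem le_of_sq {A : Subgroup G} (hA : ∀ f ∈ F, f * f ∈ A) : F ≤ A := by
  obtain ⟨f, hf, h1⟩ : ∃ f ∈ F, f * f ≠ 1 := by
    by_contra hne
    push Not at hne
    refine h.nab ⟨⟨fun x y => Subtype.ext ?_⟩⟩
    change (x : G) * y = y * x
    rw [← inv_eq_of_mul_eq_one_left (hne _ (mul_mem x.2 y.2)), mul_inv_rev, inv_eq_of_mul_eq_one_left (hne _ x.2),
      inv_eq_of_mul_eq_one_left (hne _ y.2)]
  refine (h.le_of_normal (A := closure {y | ∃ f ∈ F, y = f * f}) (fun f hf a ha _ => ?_)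
    (subset_closure ⟨f, hf, rfl⟩) (mul_mem hf hf) h1).trans ((closure_le _).2 ?_)
  · refine ((closure_le (comap (MulAut.conj f).toMonoidHom (closure {y | ∃ f ∈ F, y = f * f}))).2 ?_) ha
    rintro _ ⟨g, hg, rfl⟩
    exact subset_closure ⟨f * g * f⁻¹, mul_mem (mul_mem hf hg) (inv_mem hf), by simp [mul_assoc]⟩
  · rintro _ ⟨g, hg, rfl⟩
    exact hA g hg

theorem sub [Finite G] (H : Subgroup G) (hH : centralizer {t} ≤ H) :
    Hy (⟨t, hH (mem_centralizer_singleton_iff.2 rfl)⟩ : H) (F.subgroupOf H) where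
  tt := Subtype.ext h.tt
  nm := h.nm
  cm f hf := Subtype.ext (h.cm f hf)
  dec g hg := h.dec g (congrArg Subtype.val hg)
  odd e := h.odd (by
    rw [← relIndex_mul_index hH]
    refine Dvd.dvd.mul_right (e.trans (dvd_of_eq (congrArg index ?_))) _
    ext x
    simp [mem_centralizer_singleton_iff, mem_subgroupOf, Subtype.ext_iff])
  sim := have := h.sim; (subgroupOfEquivOfLe (h.le_cen.trans hH)).isSimpleGroup
  nab e := h.nab ⟨⟨fun x y => Subtype.ext (congrArg (fun z : F.subgroupOf H => ((z : H) : G))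
    (e.1.1 ⟨⟨x, hH (h.le_cen x.2)⟩, x.2⟩ ⟨⟨y, hH (h.le_cen y.2)⟩, y.2⟩))⟩⟩

variable [Finite G] (hG : ∀ M : Subgroup G, M.index = 2 → t ∈ M)
include hG

theorem exists_conj : ∃ n, ∃ hn : n⁻¹ * t * n ∈ F, Cen2 (⟨_, hn⟩ : F) := by
  have := Fact.mk Nat.prime_two
  obtain ⟨S⟩ : Nonempty (Sylow 2 (centralizer ({t} : Set G))) := inferInstance
  set P := (S : Subgroup (centralizer ({t} : Set G))).map (centralizer ({t} : Set G)).subtype with hP
  have h1 : P ≤ centralizer {t} := map_subtype_le _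
  have h2 : IsPGroup 2 P := S.isPGroup'.map _
  have h3 : ∀ Q : Subgroup G, IsPGroup 2 Q → Q ≤ centralizer {t} →
      ∃ c, Commute c t ∧ ∀ x ∈ Q, c * x * c⁻¹ ∈ P := fun Q hQ hle => by
    obtain ⟨Q', hQ'⟩ := (hQ.comap_subtype (K := centralizer {t})).exists_le_sylow
    obtain ⟨c, hc⟩ := MulAction.exists_smul_eq (centralizer ({t} : Set G)) Q' S
    refine ⟨c, mem_centralizer_singleton_iff.1 c.2, fun x hx => ⟨c * ⟨x, hle hx⟩ * c⁻¹, ?_, rfl⟩⟩
    rw [← hc]
    exact smul_mem_pointwise_smul (⟨x, hle hx⟩ : centralizer ({t} : Set G)) (MulAut.conj c) _ (hQ' hx)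
  have h4 : t ∈ P := by
    obtain ⟨c, hc, e⟩ := h3 (zpowers t) (isPGroup_of_pow 1 (by
      rintro _ ⟨i, rfl⟩
      rw [← zpow_natCast, ← zpow_mul, mul_comm, zpow_mul, zpow_natCast, pow_one, pow_two, h.tt, one_zpow]))
      (zpowers_le.2 (mem_centralizer_singleton_iff.2 rfl))
    simpa [hc.eq] using e t (mem_zpowers t)
  have h5 : ¬ 2 ∣ P.index := by
    rw [← relIndex_mul_index h1, Nat.prime_two.dvd_mul, not_or]
    refine ⟨?_, h.odd⟩
    rw [Subgroup.relIndex, hP, subgroupOf, comap_map_eq_self_of_injective (subtype_injective _)]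
    exact S.not_dvd_index
  have h6 : F.relIndex P = 2 := by
    refine relIndex_eq_two_iff.2 ⟨t, h4, fun b hb => ?_⟩
    have hb : Commute b t := mem_centralizer_singleton_iff.1 (h1 hb)
    rw [hb.eq]
    rcases h.dec b hb with e | e
    · exact Or.inr ⟨e, fun e' => h.nm (by simpa using mul_mem e' (inv_mem e))⟩
    · exact Or.inl ⟨e, fun e' => h.nm (by simpa using mul_mem e (inv_mem e'))⟩
  rcases thompson_ext h5 h6 (by rw [pow_two, h.tt]) h2 fun x hx => mem_centralizer_singleton_iff.1 (h1 hx) with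
    ⟨M, h7, h8⟩ | ⟨n, -, h7, h8⟩
  · exact absurd (hG M h7) h8
  refine ⟨n, h7, fun Q hQ => ?_⟩
  obtain ⟨c, hc, e⟩ := h3 (Q.map F.subtype) (hQ.map _) ((map_subtype_le _).trans h.le_cen)
  obtain ⟨f, hf, e'⟩ := h.conj_eq hc
  refine ⟨⟨f, hf⟩, fun x hx => Subtype.ext ?_⟩
  have h9 : Function.Surjective fun y : P => (⟨n⁻¹ * y * n, h8 y y.2⟩ : P) :=
    Finite.injective_iff_surjective.1 fun a b e => Subtype.ext (by simpa using e)
  obtain ⟨y, hy⟩ := h9 ⟨_, e x (mem_map_of_mem _ hx)⟩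
  have hy : n⁻¹ * y * n = f * x * f⁻¹ := (congrArg Subtype.val hy).trans (e' x x.2)
  change f * x * f⁻¹ * (n⁻¹ * t * n) = n⁻¹ * t * n * (f * x * f⁻¹)
  rw [← hy]
  simpa [mul_assoc] using congrArg (· * n) (mem_centralizer_singleton_iff.1 (h1 y.2))

theorem not_key : ¬ Key F := fun hK => by
  obtain ⟨n, hn, hc⟩ := h.exists_conj hG
  have h1 := hK _ (fun e => h.conj_ne n (congrArg Subtype.val e)) (Subtype.ext (by
    change n⁻¹ * t * n * (n⁻¹ * t * n) = 1
    rw [show n⁻¹ * t * n * (n⁻¹ * t * n) = n⁻¹ * (t * t) * n by group, h.tt]; simp)) hc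
  have h2 := ((closure_le (F.comap ((MulAut.conj n).toMonoidHom.comp F.subtype))).2 (by
    rintro _ ⟨v, hv, rfl⟩
    have : Commute (n * v * n⁻¹) t := by
      simpa [mul_assoc] using (hv.map F.subtype).map (MulAut.conj n)
    simpa [mul_assoc] using h.sq_mem this)) h1
  exact h.nm (by simpa [mul_assoc] using h2)

theorem simple_of_min (hm : ∀ N : Subgroup G, N ≠ ⊤ → ∀ hN : centralizer {t} ≤ N,
    ∃ M : Subgroup N, M.index = 2 ∧ (⟨t, hN (mem_centralizer_singleton_iff.2 rfl)⟩ : N) ∉ M) :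
    IsSimpleGroup G := by
  obtain ⟨n, hn, -⟩ := h.exists_conj hG
  have : Nontrivial G := ⟨t, 1, h.ne_one⟩
  have hu := h.conj_ne n
  have key : ∀ N : Subgroup G, N.Normal → F ≤ N → N = ⊤ := fun N hN hle => by
    by_contra hne
    have h1 : t ∈ N := by simpa [mul_assoc] using hN.conj_mem _ (hle hn) n
    have h2 : centralizer {t} ≤ N := fun g hg => (h.dec g (mem_centralizer_singleton_iff.1 hg)).elim
      (hle ·) fun e => (mul_mem_cancel_left h1).1 (hle e)
    obtain ⟨M, h3, h4⟩ := hm N hne h2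
    have h5 := h.le_of_sq (A := (M.map N.subtype).comap (MulAut.conj n).toMonoidHom) (fun f hf =>
      ⟨_, mul_self_mem_of_index_two h3 ⟨_, hN.conj_mem _ (hle hf) n⟩, by simp [mul_assoc]⟩) hn
    obtain ⟨y, hy, e⟩ := h5
    exact h4 (by rwa [show y = ⟨t, h1⟩ from Subtype.ext (by simpa [mul_assoc] using e)] at hy)
  refine ⟨fun N hN => ?_⟩
  by_cases h1 : ∃ a ∈ N, a ∈ F ∧ a ≠ 1
  · obtain ⟨a, ha, hF, h1⟩ := h1
    exact Or.inr (key N hN (h.le_of_normal (fun f _ a ha _ => hN.conj_mem a ha f) ha hF h1))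
  push Not at h1
  have h2 : ∀ a ∈ N, Commute a t → a = 1 := fun a ha hc => (h.dec a hc).elim (h1 a ha) fun e => by
    have h3 : t * a = 1 := h.eq_one e fun f hf => by
      have h4 : a * f * a⁻¹ * f⁻¹ = 1 := h1 _ (by
        simpa [mul_assoc] using mul_mem ha (hN.conj_mem _ (inv_mem ha) f)) (by
          obtain ⟨f', hf', e'⟩ := h.conj_eq hc
          rw [e' f hf]
          exact mul_mem (mul_mem (mul_mem hf' hf) (inv_mem hf')) (inv_mem hf))
      exact (h.cm f hf).mul_right (mul_inv_eq_iff_eq_mul.1 (mul_inv_eq_one.1 h4)).symm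
    have h4 : t ∈ N := by rw [eq_inv_of_mul_eq_one_left h3]; exact inv_mem ha
    exact absurd (h1 _ (by simpa using hN.conj_mem _ h4 n⁻¹) hn) hu
  have h3 := Inv.inverts_of_fixedPointFree h.tt (by rw [normalizer_eq_top]; trivial) h2
  have h4 : t * (n⁻¹ * t * n) ∈ centralizer (N : Set G) := fun r hr => by
    have e1 := h3 _ (hN.conj_mem _ (inv_mem hr) n)
    have e2 := h3 _ hr
    calc r * (t * (n⁻¹ * t * n)) = t * (t⁻¹ * r * t) * (n⁻¹ * t * n) := by group
      _ = t * n⁻¹ * (n * r⁻¹ * n⁻¹) * t * n := by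
        rw [inv_eq_of_mul_eq_one_left h.tt] at e2 ⊢; rw [e2]; group
      _ = t * n⁻¹ * (t * (n * r⁻¹ * n⁻¹)⁻¹ * t⁻¹) * t * n := by
        rw [← e1, inv_eq_of_mul_eq_one_left h.tt]
        simp only [← mul_assoc, mul_assoc _ t t, h.tt, mul_one]
      _ = _ := by group
  obtain ⟨f, hf, h5⟩ : ∃ f ∈ F, ¬ Commute f (n⁻¹ * t * n) := by
    by_contra hne
    push Not at hne
    exact hu (h.eq_one hn hne)
  have h6 : (centralizer (N : Set G)).Normal := inferInstance
  have h7 := key _ h6 (h.le_of_normal (fun f _ a ha _ => h6.conj_mem a ha f)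
    (a := (n⁻¹ * t * n)⁻¹ * (f * (n⁻¹ * t * n) * f⁻¹)) (by
      have := mul_mem (inv_mem h4) (h6.conj_mem _ h4 f)
      rwa [← mul_assoc f, (h.cm f hf).eq, mul_inv_rev, mul_assoc, mul_assoc t, mul_assoc t, inv_mul_cancel_left] at this)
    (mul_mem (inv_mem hn) (mul_mem (mul_mem hf hn) (inv_mem hf)))
    fun e => h5 (mul_inv_eq_iff_eq_mul.1 (inv_mul_eq_one.1 e).symm))
  exact Or.inl (eq_bot_iff.2 fun a ha => h2 a ha ((h7 ▸ mem_top t : t ∈ centralizer (N : Set G)) a ha))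

end Hy

theorem exists_simple (n : ℕ) : ∀ (G : Type u) [Group G] [Finite G], Nat.card G = n → ∀ (t : G) (F : Subgroup G),
    Hy t F → (∀ M : Subgroup G, M.index = 2 → t ∈ M) → ∃ (X : Type u) (_ : Group X) (_ : Finite X) (t' : X)
      (F' : Subgroup X), IsSimpleGroup X ∧ Hy t' F' ∧ Nonempty (F' ≃* F) := by
  induction n using Nat.strong_induction_on with
  | _ n ih =>
  intro G _ _ hn t F h hG
  by_cases hm : ∀ N : Subgroup G, N ≠ ⊤ → ∀ hN : centralizer {t} ≤ N,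
    ∃ M : Subgroup N, M.index = 2 ∧ (⟨t, hN (mem_centralizer_singleton_iff.2 rfl)⟩ : N) ∉ M
  · exact ⟨G, inferInstance, inferInstance, t, F, h.simple_of_min hG hm, h, ⟨MulEquiv.refl _⟩⟩
  push Not at hm
  obtain ⟨N, h1, hN, h2⟩ := hm
  obtain ⟨X, _, _, t', F', h3, h4, ⟨e⟩⟩ := ih _ (hn ▸ (card_le_card_group N).lt_of_ne
    fun e => h1 (eq_top_of_card_eq _ e)) N rfl _ _ (h.sub N hN) h2
  exact ⟨X, inferInstance, inferInstance, t', F', h3, h4, ⟨e.trans (subgroupOfEquivOfLe (h.le_cen.trans hN))⟩⟩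

end Cfsg.Agent.Dz
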