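import Mathlib
import Cfsg.Agent.Dz.Defs
import Cfsg.Agent.KFI.Exc
import Cfsg.Agent.Chev.TimSL2

/-! # Commuting fundamental subgroups and the centralizer of their quaternion subgroups -/

set_option autoImplicit false

namespace Cfsg.Agent.Dz

open Cfsg.Agent.GT MatrixGroups

variable {K : Type*} [Field K]

/-- The monomial matrices. -/
def wM (t : K) : SL(2, K) := slUp t * slLo (-t⁻¹) * slUp t

/-- The diagonal matrices. -/
def dM (t : K) : SL(2, K) := wM t * (wM 1)⁻¹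

/-- The second generator of the quaternion group. -/
def bM (s r : K) : SL(2, K) := slUp ((s - 1) / r) * slLo r * slUp ((-s - 1) / r)

theorem coe_wM {t : K} (ht : t ≠ 0) : (wM t).1 = !![0, t; -t⁻¹, 0] := by
  ext i j; fin_cases i <;> fin_cases j <;> simp [wM, Matrix.mul_apply, Fin.sum_univ_two, ht]

theorem coe_dM {t : K} (ht : t ≠ 0) : (dM t).1 = !![t, 0; 0, t⁻¹] := by
  rw [dM, Matrix.SpecialLinearGroup.coe_mul, Matrix.SpecialLinearGroup.coe_inv, coe_wM ht, coe_wM one_ne_zero]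
  ext i j; fin_cases i <;> fin_cases j <;> simp [Matrix.mul_apply, Fin.sum_univ_two, Matrix.adjugate_fin_two]

theorem coe_bM {s r : K} (hr : r ≠ 0) (h : s ^ 2 + r ^ 2 = -1) : (bM s r).1 = !![s, r; r, -s] := by
  ext i j; fin_cases i <;> fin_cases j <;> simp [bM, Matrix.mul_apply, Fin.sum_univ_two] <;> field_simp
  · ring
  · linear_combination -h
  · ring

theorem wM_sq : wM (1 : K) * wM 1 = -1 := by
  refine Subtype.ext ?_
  rw [Matrix.SpecialLinearGroup.coe_mul, coe_wM one_ne_zero]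
  ext i j; fin_cases i <;> fin_cases j <;> simp [Matrix.mul_apply, Fin.sum_univ_two]

theorem dM_neg_one : dM (-1 : K) = -1 := by
  refine Subtype.ext ?_
  rw [coe_dM (by simp)]
  ext i j; fin_cases i <;> fin_cases j <;> simp

theorem dM_one : dM (1 : K) = 1 := mul_inv_cancel _

theorem qp_wM {s r : K} (hr : r ≠ 0) (h : s ^ 2 + r ^ 2 = -1) : QP (wM 1) (bM s r) := by
  refine ⟨by simp [wM_sq], ?_, ?_⟩
  · refine Subtype.ext ?_
    rw [wM_sq, Matrix.SpecialLinearGroup.coe_mul, coe_bM hr h]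
    ext i j; fin_cases i <;> fin_cases j <;> simp [Matrix.mul_apply, Fin.sum_univ_two] <;>
      first | linear_combination h | ring
  · rw [mul_inv_eq_iff_eq_mul, eq_inv_mul_iff_mul_eq]
    refine Subtype.ext ?_
    simp only [Matrix.SpecialLinearGroup.coe_mul, coe_bM hr h, coe_wM one_ne_zero]
    ext i j; fin_cases i <;> fin_cases j <;> simp [Matrix.mul_apply, Fin.sum_univ_two]

theorem exists_cj [IsAlgClosed K] (h2 : (2 : K) ≠ 0) {s r ι : K} (hr : r ≠ 0) (h : s ^ 2 + r ^ 2 = -1)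
    (hι : ι ^ 2 = -1) : ∃ g : SL(2, K), g * wM 1 * g⁻¹ = dM ι ∧ g * bM s r * g⁻¹ = wM 1 := by
  have h0 : ι ≠ 0 := by rintro rfl; simp at hι
  have h1 : s + r * ι ≠ 0 := left_ne_zero_of_mul (b := s - r * ι) (by
    rw [show (s + r * ι) * (s - r * ι) = -1 by linear_combination h - r ^ 2 * hι]; simp)
  obtain ⟨μ, hμ⟩ := IsAlgClosed.exists_pow_nat_eq (2 * ι * (s + r * ι))⁻¹ two_pos
  have h3 : μ ^ 2 * (2 * ι * (s + r * ι)) = 1 := by
    rw [hμ, inv_mul_cancel₀ (mul_ne_zero (mul_ne_zero h2 h0) h1)]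
  have h4 : ι⁻¹ = -ι := inv_eq_of_mul_eq_one_left (by linear_combination -hι)
  obtain ⟨P, hP⟩ : ∃ P : SL(2, K), P.1 = !![μ, -μ * (s + r * ι); μ * ι, μ * (s + r * ι) * ι] :=
    ⟨⟨_, by rw [Matrix.det_fin_two_of]; linear_combination h3⟩, rfl⟩
  refine ⟨P⁻¹, ?_, ?_⟩ <;> rw [inv_inv, mul_assoc, inv_mul_eq_iff_eq_mul] <;> refine Subtype.ext ?_
  · rw [Matrix.SpecialLinearGroup.coe_mul, Matrix.SpecialLinearGroup.coe_mul, hP, coe_wM one_ne_zero, coe_dM h0, h4]
    ext i j; fin_cases i <;> fin_cases j <;> simp [Matrix.mul_apply, Fin.sum_univ_two]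
    · linear_combination -μ * hι
    · linear_combination μ * (s + r * ι) * hι
  · rw [Matrix.SpecialLinearGroup.coe_mul, Matrix.SpecialLinearGroup.coe_mul, hP, coe_wM one_ne_zero, coe_bM hr h]
    ext i j; fin_cases i <;> fin_cases j <;> simp [Matrix.mul_apply, Fin.sum_univ_two]
    · ring
    · linear_combination -μ * h + μ * r ^ 2 * hι
    · linear_combination μ * r * hι
    · linear_combination -μ * ι * h - μ * r * s * hι

end Cfsg.Agent.Dz

namespace Cfsg.Agent.Chev.StRoot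

open Cfsg.Agent.GT Cfsg.Agent.Dz MatrixGroups

variable {ι Nd M : Type} [AddCommGroup M] [Fintype Nd] {K : Type*} [Field K] {G : Type*} [Group G]
  {R : StRoot ι Nd M} {x : ι → K → G} {J : Type} [Fintype J] [DecidableEq J]

variable (R) in
/-- A frame of strongly orthogonal roots. -/
structure Frm [DecidableEq Nd] (β : J → ι) : Prop where
  pos : ∀ j, R.Pos (β j)
  orth : ∀ i j, i ≠ j → R.A (β i) (β j) = 0
  ev : ∀ j r, Even (R.A (β j) r) → R.A (β j) r = 0 ∨ r = β j ∨ r = R.ng (β j)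
  odd : ∀ j, ∃ r, Odd (R.A (β j) r)
  gen : ∃ c : J → ℤ, ∀ r, ∑ j, c j * R.A (β j) r ≠ 0
  span : ∃ (X : Nd → J → ℤ) (Y : J → Nd → ℤ), ∀ i k, Even ((if k = i then 1 else 0) -
    ∑ j, R.A (β j) (R.sr i) * Y j k - ∑ j, X i j * R.co (β j) k)

variable (R x) in
/-- Fundamental subgroups along a family of roots. -/
structure Fam (β : J → ι) (t : J → K) (φ : J → SL(2, K) →* G) : Prop where
  ne : ∀ j, t j ≠ 0
  up : ∀ j s, φ j (slUp s) = x (β j) (t j * s)
  lo : ∀ j s, φ j (slLo s) = x (R.ng (β j)) ((t j)⁻¹ * s)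

variable {β : J → ι} {t : J → K} {φ : J → SL(2, K) →* G}

section

omit [DecidableEq J] [Fintype J]

theorem Fam.wM (h : R.Fam x β t φ) (j : J) (s : K) : φ j (wM s) = R.nn x (β j) (t j * s) := by
  simp only [Dz.wM, map_mul, h.up, h.lo, nn, mul_inv, mul_neg]

theorem Fam.mono (h : R.Fam x β t φ) (hs : R.IsSt x) (j : J) {s : K} (h0 : s ≠ 0) :
    R.Mono x (φ j (dM s)) 1 fun r => s ^ R.A (β j) r := by
  rw [dM, map_mul, map_inv, h.wM, h.wM, mul_comm, mul_one]
  exact hs.mono_div _ h0 (h.ne j)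

theorem Fam.mem_HH (h : R.Fam x β t φ) (hs : R.IsSt x) (j : J) {s : K} (h0 : s ≠ 0) : φ j (dM s) ∈ R.HH x := by
  rw [dM, map_mul, map_inv, h.wM, h.wM, mul_one]
  exact hs.div_mem _ (mul_ne_zero (h.ne j) h0) (h.ne j)

theorem Fam.mem_XS (h : R.Fam x β t φ) (j : J) (y : SL(2, K)) : φ j y ∈ XS x {β j, R.ng (β j)} :=
  (eq_top_of_slUp_slLo_mem ((XS x {β j, R.ng (β j)}).comap (φ j))
    (fun s => by rw [Subgroup.mem_comap, h.up]; exact x_mem_XS x (by simp) _)
    fun s => by rw [Subgroup.mem_comap, h.lo]; exact x_mem_XS x (by simp) _).ge (Subgroup.mem_top y)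

theorem Amb.ext_chr {p : ℕ} (hA : R.Amb x p) {a b : G} {χ χ' : ι → K} (ha : R.Mono x a 1 χ)
    (hb : R.Mono x b 1 χ') (h : ∀ r, χ r = χ' r) : a = b :=
  mul_inv_eq_one.1 (hA.eq_one ((ha.mul (hb.inv (by rw [inv_one]; exact R.isAut_one))).congr (by simp)
    fun _ => rfl) fun r => by simp [h, hb.ne_zero])

theorem Amb.exists_fam {p : ℕ} (hA : R.Amb x p) (β : J → ι) {t : J → K} (ht : ∀ j, t j ≠ 0) :
    ∃ φ, R.Fam x β t φ := by
  have hs := hA.str.toIsSt
  have key : ∀ j, ∃ φ : SL(2, K) →* G, (∀ s, φ (slUp s) = x (β j) (t j * s)) ∧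
      ∀ s, φ (slLo s) = x (R.ng (β j)) ((t j)⁻¹ * s) := fun j => by
    have h0 := ht j
    have h1 : ∀ s, Tim.stW (fun s => x (β j) (t j * s)) (fun s => x (R.ng (β j)) ((t j)⁻¹ * s)) s =
        R.nn x (β j) (t j * s) := fun s => by simp only [Tim.stW, nn, mul_inv, mul_neg]
    refine Tim.SL2Rel.exists_hom ⟨fun a b => by rw [mul_add, hs.add], fun a b => by rw [mul_add, hs.add],
      fun s h u => ?_, fun s h u => ?_⟩ fun a b ha hb => ?_
    · rw [h1, hs.nn_conj_self _ (mul_ne_zero h0 h)]; congr 1; field_simp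
    · rw [h1, hs.nn_conj_ng _ (mul_ne_zero h0 h)]; congr 1; field_simp
    · rw [Tim.stH, Tim.stH, Tim.stH]
      simp only [h1]
      simp only [one_mul, mul_comm (t j)]
      exact hA.ext_chr (hs.mono_div _ (mul_ne_zero ha hb) h0) (((hs.mono_div _ ha h0).mul
        (hs.mono_div _ hb h0)).congr (mul_one _) fun _ => rfl) fun r => by simp [mul_zpow]
  choose φ h1 h2 using key
  exact ⟨φ, ht, h1, h2⟩

end

variable [DecidableEq Nd]

omit [DecidableEq J] in
theorem Frm.commute (hβ : R.Frm β) (h : R.Fam x β t φ) (hs : R.IsAB x) :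
    Pairwise fun i j => ∀ a b, Commute (φ i a) (φ j b) := fun i j hij a b => by
  have key : ∀ r ∈ ({β i, R.ng (β i)} : Set ι), ∀ s ∈ ({β j, R.ng (β j)} : Set ι), ∀ u v,
      x r u * x s v = x s v * x r u := fun r hr s hs' => by
    have h0 : R.A r s = 0 := by
      rcases hr with rfl | rfl <;> rcases hs' with rfl | rfl <;> simp [A_ng_left, A_ng_right, hβ.orth i j hij]
    have h1 : s ≠ r := fun e => by rw [e, A_self] at h0; omega
    have h2 : s ≠ R.ng r := fun e => by rw [e, A_ng_right, A_self] at h0; omega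
    refine (hs.comm r s h1 h2).commute h1 h2 (Set.eq_empty_of_forall_notMem ?_)
    rintro γ ⟨a, b, ha, hb, e⟩
    have h3 : R.A r γ = 2 * a := by
      rw [A_def, e, map_add, map_zsmul, map_zsmul, ← A_def, ← A_def, h0, A_self]; simp [mul_comm]
    have h4 : R.A s γ = 2 * b := by
      rw [A_def, e, map_add, map_zsmul, map_zsmul, ← A_def, ← A_def, R.A_zero_comm h0, A_self]; simp [mul_comm]
    have h5 : γ = r ∨ γ = R.ng r := by
      rcases hr with rfl | rfl
      · exact (hβ.ev i γ (by simp [h3])).resolve_left (by omega)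
      · rw [A_ng_left] at h3
        rw [ng_ng, or_comm]
        exact (hβ.ev i γ ⟨-a, by omega⟩).resolve_left (by omega)
    rcases h5 with rfl | rfl
    · rw [R.A_zero_comm h0] at h4; omega
    · rw [A_ng_right, R.A_zero_comm h0] at h4; omega
  refine Subgroup.mem_centralizer_singleton_iff.1 (XS_le (fun r hr u => ?_) (h.mem_XS i a))
  exact Subgroup.mem_centralizer_singleton_iff.2 (Subgroup.mem_centralizer_singleton_iff.1
    (XS_le (fun s hs v => Subgroup.mem_centralizer_singleton_iff.2 (key r hr s hs u v).symm) (h.mem_XS j b))).symm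

end Cfsg.Agent.Chev.StRoot
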