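import Mathlib
import Cfsg.Agent.Dz.ExcA

/-! # Involutions centralizing the quaternion subgroups of a frame -/

set_option autoImplicit false

namespace Cfsg.Agent.Dz

open Cfsg.Agent.GT MatrixGroups Subgroup

variable {K : Type*} [Field K] {G : Type*} [Group G]

theorem zpow_eq_iff_four {i : K} (hi : i ^ 2 = -1) (h2 : (-1 : K) ≠ 1) {a b : ℤ} : i ^ a = i ^ b ↔ 4 ∣ a - b := by
  have h0 : i ≠ 0 := by rintro rfl; simp at hi
  have h1 : IsPrimitiveRoot i (2 ^ 2) := (orderOf_eq_prime_pow (x := i) (p := 2) (n := 1)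
    (by simpa [hi] using h2) (by rw [pow_succ, pow_mul]; simp [hi])) ▸ IsPrimitiveRoot.orderOf i
  rw [← div_eq_one_iff_eq (zpow_ne_zero _ h0), ← zpow_sub₀ h0, h1.zpow_eq_one_iff_dvd]
  rfl

theorem key_sub (L : Subgroup G) {J : Type*} (a b : J → G) (ha : ∀ j, a j ∈ L) (hb : ∀ j, b j ∈ L)
    (hq : ∀ j, QP (a j) (b j))
    (hc : ∀ i j, i ≠ j → Commute (a i) (a j) ∧ Commute (a i) (b j) ∧ Commute (b i) (b j))
    (h : ∀ u ∈ L, u * u = 1 → (∀ j, Commute (a j) u ∧ Commute (b j) u) →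
      u ∈ closure (Set.range fun j => a j * a j)) : Key L := by
  refine key_of_qp (fun j => (⟨a j, ha j⟩ : L)) (fun j => ⟨b j, hb j⟩)
    (fun j => ⟨Subtype.ext (hq j).four, Subtype.ext (hq j).sq, Subtype.ext (hq j).cj⟩)
    (fun i j hij => ⟨Subtype.ext (hc i j hij).1, Subtype.ext (hc i j hij).2.1, Subtype.ext (hc i j hij).2.2⟩)
    fun u _ h1 h2 => ?_
  obtain ⟨v, hv, e⟩ := (closure_le ((SqC u).map L.subtype)).2 (by
    rintro _ ⟨j, rfl⟩; exact ⟨_, sq_mem (h2 j).1, rfl⟩) (h u u.2 (congrArg Subtype.val h1) fun j =>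
      ⟨(h2 j).1.map L.subtype, (h2 j).2.map L.subtype⟩)
  rwa [← show v = u from Subtype.ext e] at hv ⊢

theorem mem_of_fix {p e : ℕ} [Fact p.Prime] [CharP K p] {s r : K} (hs : s ^ p ^ e = s) (hr : r ^ p ^ e = r)
    (A : Subgroup SL(2, K)) (h : ∀ a : K, a ^ p ^ e = a → slUp a ∈ A ∧ slLo a ∈ A) : wM 1 ∈ A ∧ bM s r ∈ A := by
  simp only [← iterateFrobenius_def] at hs hr h
  exact ⟨mul_mem (mul_mem (h _ (by simp)).1 (h _ (by simp)).2) (h _ (by simp)).1,
    mul_mem (mul_mem (h _ (by simp [hs, hr])).1 (h _ hr).2) (h _ (by simp [hs, hr])).1⟩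

theorem exists_cj_all {J : Type*} [Finite J] {S : Type*} [Group S] {φ : J → S →* G}
    (hc : Pairwise fun i j => ∀ a b, Commute (φ i a) (φ j b)) (g : S) :
    ∃ γ : G, ∀ j y, γ * φ j y * γ⁻¹ = φ j (g * y * g⁻¹) := by
  classical
  have := Fintype.ofFinite J
  suffices H : ∀ s : Finset J, ∃ γ : G, ∀ j y, γ * φ j y * γ⁻¹ = φ j (if j ∈ s then g * y * g⁻¹ else y) by
    simpa using H Finset.univ
  intro s
  induction s using Finset.induction_on with
  | empty => exact ⟨1, by simp⟩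
  | insert i s hi ih =>
    obtain ⟨γ, hγ⟩ := ih
    refine ⟨φ i g * γ, fun j y => ?_⟩
    rw [mul_inv_rev, mul_assoc _ γ, mul_assoc, ← mul_assoc _ γ⁻¹, hγ, ← mul_assoc]
    by_cases e : j = i
    · simp [e, hi]
    · rw [(hc (Ne.symm e) _ _).eq, mul_inv_cancel_right]; simp [e]

end Cfsg.Agent.Dz

namespace Cfsg.Agent.Chev.StRoot

open Cfsg.Agent.GT Cfsg.Agent.Dz MatrixGroups

variable {ι Nd M : Type} [AddCommGroup M] [Fintype Nd] {K : Type*} [Field K] {G : Type*} [Group G]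
  {R : StRoot ι Nd M} {x : ι → K → G} {J : Type} [Fintype J] [DecidableEq Nd] [Finite ι]
  {β : J → ι} {t : J → K} {φ : J → SL(2, K) →* G} {p : ℕ}

omit [DecidableEq Nd] in
theorem Amb.ext_sr (hA : R.Amb x p) {a b : G} (ha : a ∈ R.HH x) (hb : b ∈ R.HH x) {χ χ' : ι → K}
    (h1 : R.Mono x a 1 χ) (h2 : R.Mono x b 1 χ') (h : ∀ i, χ (R.sr i) = χ' (R.sr i)) : a = b := by
  obtain ⟨c, hc⟩ := hA.str.toIsSt.exists_chr ha
  obtain ⟨d, hd⟩ := hA.str.toIsSt.exists_chr hb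
  obtain rfl := (hA.str.toIsModel.mono_unique hc h1).2
  obtain rfl := (hA.str.toIsModel.mono_unique hd h2).2
  exact hA.ext_chr h1 h2 fun r => by simp only [chv_eq_prod _ r, h]

omit [DecidableEq Nd] in
theorem Amb.mem_NN_fam (hA : R.Amb x p) {A : Type*} {s : A → G} {c : A → ι → K} (hH : ∀ a, s a ∈ R.HH x)
    (hS : ∀ a, R.Mono x (s a) 1 (c a)) (h1 : ∀ r, ∃ a, c a r ≠ 1) {g : G} (hc : ∀ a, Commute (s a) g) :
    g ∈ R.NN x := by
  classical
  have h2 : ∀ a, (if h : ∃ d, R.Mono x (s a) 1 d then h.choose else 1) = c a := fun a => by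
    rw [dif_pos ⟨_, hS a⟩]
    exact (hA.str.toIsModel.mono_unique (Exists.choose_spec ⟨_, hS a⟩) (hS a)).2
  refine hA.str.mem_NN_of_commute (S := Set.range s)
    (c := fun y => if h : ∃ d, R.Mono x y 1 d then h.choose else 1) (by rintro _ ⟨a, rfl⟩; exact hH a)
    (by rintro _ ⟨a, rfl⟩; exact h2 a ▸ hS a) (fun r _ => ?_) (hA.top ▸ Subgroup.mem_top g)
    (by rintro _ ⟨a, rfl⟩; exact hc a)
  obtain ⟨a, ha⟩ := h1 r
  exact ⟨_, ⟨a, rfl⟩, by rwa [h2]⟩

theorem Frm.eq_one (hβ : R.Frm β) {w : Equiv.Perm ι} (hw : w ∈ R.weyl) (e : ∀ j, w (β j) = β j) : w = 1 := by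
  obtain ⟨c, hc⟩ := hβ.gen
  have h0 : ∀ r, (∑ j, c j • R.cw (β j)) (R.wt r) = ∑ j, c j * R.A (β j) r := fun r => by
    simp [A_def]
  obtain ⟨L, hL⟩ := R.exists_wd_of_generic _ fun r => h0 r ▸ hc r
  have h1 := R.mem_weyl_iff.2 ⟨L, rfl⟩
  have h2 := R.eq_one_of_mem_weyl_of_pos (mul_mem (mul_mem h1 hw) (inv_mem h1)) fun i => by
    have h3 := (hL ((R.wd L)⁻¹ (R.sr i))).1 (by simpa using R.pos_sr i)
    rw [Equiv.Perm.mul_apply, Equiv.Perm.mul_apply, hL, h0]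
    rw [h0] at h3
    refine h3.trans_eq (Finset.sum_congr rfl fun j _ => ?_)
    rw [← (R.isAut_of_mem_weyl hw).A, e]
  simpa using h2

variable (hβ : R.Frm β) (hA : R.Amb x p) (h : R.Fam x β t φ) (h2 : (-1 : K) ≠ 1) {i : K} (hi : i ^ 2 = -1)
include hβ hA h h2

include hi in
theorem Frm.wN_eq {g : G} (hg : g ∈ R.NN x) {j : J} (e : Commute (φ j (dM i)) g) : R.wN x g (β j) = β j := by
  have h0 : i ≠ 0 := by rintro rfl; simp at hi
  have h1 := fun r => (zpow_eq_iff_four hi h2).1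
    (hA.str.toIsModel.c_wN_of_commute (h.mono hA.str.toIsSt j h0) hg e r)
  have h3 := h1 (β j)
  rw [A_self] at h3
  rcases hβ.ev j (R.wN x g (β j)) (Int.even_iff.2 (by omega)) with h4 | h4 | h4
  · omega
  · exact h4
  · obtain ⟨r, k, hr⟩ := hβ.odd j
    have h5 := h1 r
    have h6 := (R.isAut_of_mem_weyl (wN_mem_weyl (x := x) g)).A (β j) r
    rw [h4, A_ng_left] at h6
    omega

theorem Frm.mem_of_HH {u : G} (hH : u ∈ R.HH x) (hu : u * u = 1) (h1 : ∀ j, Commute (φ j (wM 1)) u) :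
    u ∈ Subgroup.closure (Set.range fun j => φ j (-1)) := by
  classical
  have hs := hA.str.toIsSt
  obtain ⟨χ, hχ⟩ := hs.exists_chr hH
  have h3 : ∀ r, R.chv χ r ^ 2 = 1 := hA.chr_pow hχ (by rw [pow_two, hu])
  have h4 : ∀ j, R.chv χ (β j) = 1 := fun j => by
    obtain ⟨r, hr⟩ := hβ.odd j
    have h5 := hs.mono_div (β j) (hχ.ne_zero (β j)) (h.ne j)
    have h6 := hχ.conj_nn (β j) (t j)
    have h7 := h1 j
    rw [h.wM, mul_one] at h7
    rw [← h7.eq, mul_inv_cancel_right] at h6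
    rw [← show _ = R.nn x (β j) _ from h6, mul_inv_cancel] at h5
    have h8 := congrFun (hA.str.toIsModel.mono_unique h5 Mono.one).2 r
    refine (sq_eq_one_iff.1 (h3 _)).resolve_right fun e => h2 ?_
    rwa [e, hr.neg_one_zpow] at h8
  obtain ⟨a, ha⟩ : ∃ a : Nd → ℤ, ∀ k, R.chv χ (R.sr k) = (-1) ^ a k :=
    ⟨fun k => if R.chv χ (R.sr k) = 1 then 0 else 1, fun k => by
      beta_reduce
      split_ifs with h
      · simp [h]
      · simpa using (sq_eq_one_iff.1 (h3 _)).resolve_left h⟩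
  have h5 : ∀ j, Even (∑ k, R.co (β j) k * a k) := fun j => by
    have := h4 j
    rw [chv_eq_prod, Finset.prod_congr rfl fun k _ => by rw [ha k, ← zpow_mul, mul_comm], neg_one_zpow_sum] at this
    exact by_contra fun h' => h2 (by rwa [(Int.not_even_iff_odd.1 h').neg_one_zpow] at this)
  obtain ⟨X, Y, hXY⟩ := hβ.span
  have key : ∀ (ε : J → ℤ) (s : Finset J), ∃ z ∈ Subgroup.closure (Set.range fun j => φ j (-1)), z ∈ R.HH x ∧
      R.Mono x z 1 fun r => (-1) ^ ∑ j ∈ s, R.A (β j) r * ε j := fun ε s => by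
    induction s using Finset.induction_on with
    | empty => exact ⟨1, one_mem _, one_mem _, by simpa using Mono.one⟩
    | insert j s hj ih =>
      obtain ⟨z, h6, h7, h8⟩ := ih
      have h9 : ((-1 : K) ^ ε j) ≠ 0 := zpow_ne_zero _ (by simp)
      refine ⟨φ j (dM ((-1) ^ ε j)) * z, mul_mem ?_ h6, mul_mem (h.mem_HH hs j h9) h7,
        ((h.mono hs j h9).mul h8).congr (mul_one _) fun r => ?_⟩
      · rcases Int.even_or_odd (ε j) with e | e
        · rw [e.neg_one_zpow, dM_one, map_one]; exact one_mem _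
        · rw [e.neg_one_zpow, dM_neg_one]; exact Subgroup.subset_closure ⟨j, rfl⟩
      · rw [Finset.sum_insert hj, zpow_add₀ (by simp), ← zpow_mul, mul_comm (ε j)]; rfl
  obtain ⟨z, h6, h7, h8⟩ := key (fun j => ∑ k, Y j k * a k) Finset.univ
  refine hA.ext_sr hH h7 hχ h8 (fun m => ?_) ▸ h6
  have h9 : Even (a m - ∑ j, R.A (β j) (R.sr m) * ∑ k, Y j k * a k) := by
    have e : a m - ∑ j, R.A (β j) (R.sr m) * ∑ k, Y j k * a k = ∑ k, ((if k = m then 1 else 0) -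
        ∑ j, R.A (β j) (R.sr m) * Y j k - ∑ j, X m j * R.co (β j) k) * a k +
        ∑ j, X m j * ∑ k, R.co (β j) k * a k := by
      simp only [sub_mul, Finset.sum_sub_distrib, Finset.sum_mul, Finset.mul_sum, mul_assoc]
      rw [Finset.sum_comm (f := fun k j => R.A (β j) (R.sr m) * (Y j k * a k)),
        Finset.sum_comm (f := fun k j => X m j * (R.co (β j) k * a k))]
      simp
    rw [e]
    exact (Finset.even_sum _ fun k _ => (hXY m k).mul_right _).add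
      (Finset.even_sum _ fun j _ => (h5 j).mul_left _)
  rw [ha, ← sub_add_cancel (a m) _, zpow_add₀ (by simp), h9.neg_one_zpow, one_mul]

theorem Frm.mem_of_comm [IsAlgClosed K] {s r : K} (hr : r ≠ 0) (hsr : s ^ 2 + r ^ 2 = -1) {u : G} (hu : u * u = 1)
    (h1 : ∀ j, Commute (φ j (wM 1)) u ∧ Commute (φ j (bM s r)) u) :
    u ∈ Subgroup.closure (Set.range fun j => φ j (-1)) := by
  have hs := hA.str.toIsSt
  obtain ⟨i, hi⟩ := IsAlgClosed.exists_pow_nat_eq (-1 : K) two_pos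
  have h0 : i ≠ 0 := by rintro rfl; simp at hi
  obtain ⟨g, e1, e2⟩ := exists_cj (fun e => h2 (by linear_combination -e)) hr hsr hi
  obtain ⟨γ, hγ⟩ := exists_cj_all (hβ.commute h hs.toIsAB) g
  have h3 : ∀ j y, Commute (φ j y) u → Commute (φ j (g * y * g⁻¹)) (γ * u * γ⁻¹) := fun j y e =>
    hγ j y ▸ e.map (MulAut.conj γ)
  have h4 := fun j => e1 ▸ h3 j _ (h1 j).1
  have h5 := hA.mem_NN_fam (fun j => h.mem_HH hs j h0) (fun j => h.mono hs j h0) (fun r => by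
    by_contra! h5
    obtain ⟨c, hc⟩ := hβ.gen
    refine hc r (Finset.sum_eq_zero fun j _ => ?_)
    have h6 := (zpow_eq_iff_four hi h2 (b := 0)).1 (by rw [h5 j, zpow_zero])
    rcases hβ.ev j r (Int.even_iff.2 (by omega)) with h7 | rfl | rfl
    · rw [h7, mul_zero]
    · rw [A_self] at h6; omega
    · rw [A_ng_right, A_self] at h6; omega) h4
  have h6 := hβ.mem_of_HH hA h h2 (hA.str.rootBN.mem_H_of_w_eq_one h5 (hβ.eq_one (wN_mem_weyl _)
    fun j => hβ.wN_eq hA h h2 hi h5 (h4 j))) (by rw [conj_mul, hu]; simp) fun j => e2 ▸ h3 j _ (h1 j).2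
  have h7 := (Subgroup.closure_le (Subgroup.centralizer {γ})).2 (by
    rintro _ ⟨j, rfl⟩
    exact Subgroup.mem_centralizer_singleton_iff.2 (mul_inv_eq_iff_eq_mul.1 (by simpa using hγ j (-1))).symm) h6
  rw [Subgroup.mem_centralizer_singleton_iff, inv_mul_cancel_right, mul_assoc, mul_right_inj] at h7
  rwa [mul_assoc, ← h7] at h6

end Cfsg.Agent.Chev.StRoot
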