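import Mathlib
import Cfsg.Agent.Dz.ExcB

/-! # The 2-central involutions of the fixed point groups -/

set_option autoImplicit false

namespace Cfsg.Agent.Chev.StRoot

open Cfsg.Agent.GT Cfsg.Agent.Dz MatrixGroups

variable {ι Nd M : Type} [AddCommGroup M] [Fintype Nd] {K : Type*} [Field K] {G : Type*} [Group G]
  {R : StRoot ι Nd M} {x : ι → K → G} [Finite ι] {p : ℕ}

theorem exists_mul_pow_eq [IsAlgClosed K] {c : K} (hc : c ≠ 0) {q : ℕ} (hq : 1 < q) :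
    ∃ t, t ≠ 0 ∧ c * t ^ q = t := by
  obtain ⟨t, ht⟩ := IsAlgClosed.exists_pow_nat_eq c⁻¹ (Nat.sub_pos_of_lt hq)
  refine ⟨t, fun e => inv_ne_zero hc (by rw [← ht, e, zero_pow (Nat.sub_pos_of_lt hq).ne']), ?_⟩
  rw [← Nat.sub_add_cancel hq.le, pow_succ, ht, mul_inv_cancel_left₀ hc]

theorem Fam.map_τ {J : Type} {β : J → ι} {t : J → K} {φ : J → SL(2, K) →* G} (h : R.Fam x β t φ) (T : R.Tw x)
    {π : J → J} (hρ : ∀ j, T.ρ (β j) = β (π j)) (ht : ∀ j, T.c (β j) * t j ^ T.q = t (π j)) {s : K}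
    (hs : s ^ T.q = s) (j : J) : T.τ (φ j (slUp s)) = φ (π j) (slUp s) ∧ T.τ (φ j (slLo s)) = φ (π j) (slLo s) := by
  simp only [h.up, h.lo, T.fb.map, T.fb.aut.ng, hρ, mul_pow, hs, ← mul_assoc, ← ht j, T.fb.c_ng, mul_inv, inv_pow,
    and_self]

theorem Tw.neg_one_ne' [CharP K p] (T : R.Tw x) {e : ℕ} (hq : T.q = p ^ e) : (-1 : K) ≠ 1 := T.neg_one_ne (by
  have := T.one_lt
  rw [hq, Nat.cast_pow, CharP.cast_eq_zero, zero_pow (by rintro rfl; simp [hq] at this)])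

variable [DecidableEq Nd] [IsAlgClosed K] [Fact p.Prime] [CharP K p] (hA : R.Amb x p) (T : R.Tw x) {e : ℕ}
  (hq : T.q = p ^ e)
include hA hq

theorem Amb.key_fix {J : Type} [Fintype J] {β : J → ι} (hβ : R.Frm β) (hρ : ∀ j, T.ρ (β j) = β j) :
    Key (R.LL x T.τ) := by
  choose t h0 ht using fun j => exists_mul_pow_eq (T.fb.ne_zero (β j)) T.one_lt
  obtain ⟨φ, h⟩ := hA.exists_fam β h0
  obtain ⟨s, r, hr, hsr, hf⟩ := exists_sq_add_sq K p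
  have h1 := fun j => mem_of_fix (hf e).1 (hf e).2 ((R.LL x T.τ).comap (φ j)) fun a ha =>
    ⟨Subgroup.mem_sup_left ⟨h.up j a ▸ x_mem_UU (hβ.pos j) _, (h.map_τ T (π := id) hρ ht (hq ▸ ha) j).1⟩,
      Subgroup.mem_sup_right ⟨h.lo j a ▸ x_mem_VV (by rw [pos_ng_iff, not_not]; exact hβ.pos j) _,
        (h.map_τ T (π := id) hρ ht (hq ▸ ha) j).2⟩⟩
  have h2 := hβ.commute h hA.str.toIsSt.toIsAB
  refine key_sub _ (fun j => φ j (wM 1)) (fun j => φ j (bM s r)) (fun j => (h1 j).1) (fun j => (h1 j).2)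
    (fun j => (qp_wM hr hsr).map _) (fun i j hij => ⟨h2 hij _ _, h2 hij _ _, h2 hij _ _⟩) fun u _ hu h3 => ?_
  simp only [← map_mul, wM_sq]
  exact hβ.mem_of_comm hA h (T.neg_one_ne' hq) hr hsr hu h3

theorem Amb.key_tri {β : Fin 4 → ι} (hβ : R.Frm β) (hρ : ∀ j, T.ρ (β j) = β (![2, 1, 3, 0] j))
    (t1 : ∀ r, ¬ (4 ∣ R.A (β 1) r ∧ 4 ∣ R.A (β 0) r + R.A (β 2) r + R.A (β 3) r))
    (t2 : ∀ w ∈ R.weyl, w (β 1) = β 1 → ∀ j, w (β j) = β j ∨ w (β j) = R.ng (β j))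
    (t3 : ∀ j r, Even (R.A (β j) r + R.A (β 1) r)) : Key (R.LL x T.τ) := by
  have hs := hA.str.toIsSt
  have h2 := T.neg_one_ne' hq
  have hc := T.fb.ne_zero
  obtain ⟨t, h0, ht⟩ : ∃ t : Fin 4 → K, (∀ j, t j ≠ 0) ∧ ∀ j, T.c (β j) * t j ^ T.q = t (![2, 1, 3, 0] j) := by
    obtain ⟨a, ha, e1⟩ := exists_mul_pow_eq (hc (β 1)) T.one_lt
    obtain ⟨b, hb, e2⟩ := exists_mul_pow_eq (mul_ne_zero (hc (β 3)) (pow_ne_zero T.q (mul_ne_zero (hc (β 2))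
      (pow_ne_zero T.q (hc (β 0)))))) (Nat.one_lt_pow three_ne_zero T.one_lt)
    refine ⟨![b, a, T.c (β 0) * b ^ T.q, T.c (β 2) * (T.c (β 0) * b ^ T.q) ^ T.q], fun j => ?_, fun j => ?_⟩
    · fin_cases j <;> simp [ha, hb, hc]
    · fin_cases j
      exacts [rfl, e1, rfl, show T.c (β 3) * (T.c (β 2) * (T.c (β 0) * b ^ T.q) ^ T.q) ^ T.q = b by
        simpa only [mul_pow, ← pow_mul, mul_assoc, pow_succ, pow_zero, one_mul] using e2]
  obtain ⟨φ, h⟩ := hA.exists_fam β h0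
  obtain ⟨s, r, hr, hsr, hf⟩ := exists_sq_add_sq K p
  have h3 := hβ.commute h hs.toIsAB
  obtain ⟨δ, hδ⟩ : ∃ δ : SL(2, K) →* G, ∀ y, δ y = φ 0 y * φ 2 y * φ 3 y :=
    ⟨MonoidHom.mk' (fun y => φ 0 y * φ 2 y * φ 3 y) fun a b => by
      rw [map_mul, map_mul, map_mul, (h3 (by decide) b a).mul_mul_mul_comm,
        ((h3 (by decide) b a).mul_left (h3 (by decide) b a)).mul_mul_mul_comm], fun _ => rfl⟩
  have h4 : ∀ y, (∀ j, T.τ (φ j y) = φ (![2, 1, 3, 0] j) y) → T.τ (δ y) = δ y := fun y hy => by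
    rw [hδ, map_mul, map_mul, hy, hy, hy]
    exact ((h3 (by decide) y y).mul_left (h3 (by decide) y y)).eq.trans (mul_assoc _ _ _).symm
  have h5 := fun a (ha : a ^ p ^ e = a) => h.map_τ T hρ ht (hq ▸ ha)
  have h6 : ∀ j a, φ j (slUp a) ∈ R.UU x ∧ φ j (slLo a) ∈ R.VV x := fun j a =>
    ⟨h.up j a ▸ x_mem_UU (hβ.pos j) _, h.lo j a ▸ x_mem_VV (by rw [pos_ng_iff, not_not]; exact hβ.pos j) _⟩
  have h7 := mem_of_fix (hf e).1 (hf e).2 ((R.LL x T.τ).comap (φ 1) ⊓ (R.LL x T.τ).comap δ ⊓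
    ⨅ j, (MonoidHom.comp T.τ (φ j)).eqLocus (φ (![2, 1, 3, 0] j))) fun a ha =>
    ⟨⟨⟨Subgroup.mem_sup_left ⟨(h6 1 a).1, (h5 a ha 1).1⟩, Subgroup.mem_sup_left
      ⟨hδ _ ▸ mul_mem (mul_mem (h6 0 a).1 (h6 2 a).1) (h6 3 a).1, h4 _ fun j => (h5 a ha j).1⟩⟩,
      Subgroup.mem_iInf.2 fun j => (h5 a ha j).1⟩,
    ⟨⟨Subgroup.mem_sup_right ⟨(h6 1 a).2, (h5 a ha 1).2⟩, Subgroup.mem_sup_right
      ⟨hδ _ ▸ mul_mem (mul_mem (h6 0 a).2 (h6 2 a).2) (h6 3 a).2, h4 _ fun j => (h5 a ha j).2⟩⟩,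
      Subgroup.mem_iInf.2 fun j => (h5 a ha j).2⟩⟩
  have h8 : ∀ a b, Commute (φ 1 a) (δ b) := fun a b =>
    hδ b ▸ ((h3 (by decide) a b).mul_right (h3 (by decide) a b)).mul_right (h3 (by decide) a b)
  have hz : ∀ j, R.Mono x (φ j (-1)) 1 fun r => (-1) ^ R.A (β 1) r := fun j =>
    (dM_neg_one (K := K) ▸ h.mono hs j (by simp)).congr rfl fun r => by
      rw [← mul_left_inj' (zpow_ne_zero (R.A (β 1) r) (neg_ne_zero.2 one_ne_zero)), ← zpow_add₀ (by simp),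
        ← zpow_add₀ (by simp), (t3 j r).neg_one_zpow, (t3 1 r).neg_one_zpow]
  obtain ⟨i, hi⟩ := IsAlgClosed.exists_pow_nat_eq (-1 : K) two_pos
  have hi0 : i ≠ 0 := by rintro rfl; simp at hi
  obtain ⟨g, e1, e2⟩ := exists_cj (fun e => h2 (by linear_combination -e)) hr hsr hi
  have key : ∀ u ∈ R.LL x T.τ, ∀ k y : SL(2, K), k * y * k⁻¹ = dM i → y * y = -1 →
      (∀ j, T.τ (φ j y) = φ (![2, 1, 3, 0] j) y) → Commute (φ 1 y) u → Commute (δ y) u →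
      ∀ j, Commute (φ j y) u := fun u hu k y ek ey hy c1 c2 => by
    obtain ⟨γ, hγ⟩ := exists_cj_all h3 k
    have c3 : Commute (φ 1 (dM i)) (γ * u * γ⁻¹) := ek ▸ hγ 1 y ▸ c1.map (MulAut.conj γ)
    have c4 : Commute (δ (dM i)) (γ * u * γ⁻¹) := by
      have := c2.map (MulAut.conj γ)
      rwa [hδ, map_mul, map_mul, MulAut.conj_apply, MulAut.conj_apply, MulAut.conj_apply, hγ, hγ, hγ, ek,
        ← hδ] at this
    have hN := hA.mem_NN_fam (s := ![φ 1 (dM i), δ (dM i)]) (c := ![fun r => i ^ R.A (β 1) r,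
      fun r => i ^ (R.A (β 0) r + R.A (β 2) r + R.A (β 3) r)]) (Fin.forall_fin_two.2 ⟨h.mem_HH hs 1 hi0,
        hδ _ ▸ mul_mem (mul_mem (h.mem_HH hs 0 hi0) (h.mem_HH hs 2 hi0)) (h.mem_HH hs 3 hi0)⟩)
      (Fin.forall_fin_two.2 ⟨h.mono hs 1 hi0, hδ _ ▸ (((h.mono hs 0 hi0).mul (h.mono hs 2 hi0)).mul
        (h.mono hs 3 hi0)).congr (by simp) fun r => by simp [zpow_add₀ hi0]⟩) (fun r => by
          by_contra! h9
          exact t1 r ⟨by simpa using (zpow_eq_iff_four hi h2 (b := 0)).1 (by simpa using h9 0),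
            by simpa using (zpow_eq_iff_four hi h2 (b := 0)).1 (by simpa using h9 1)⟩)
      (Fin.forall_fin_two.2 ⟨c3, c4⟩)
    obtain ⟨c, hm⟩ := hs.mono_wN hN
    have h9 : ∀ j, u * φ j y * u⁻¹ = φ j y ∨ u * φ j y * u⁻¹ = φ j y⁻¹ := fun j => by
      have h10 : R.Mono x (γ * u * γ⁻¹ * φ j (dM i) * (γ * u * γ⁻¹)⁻¹) 1
          fun r => i ^ R.A (R.wN x (γ * u * γ⁻¹) (β j)) r := by
        rw [dM, map_mul, map_inv, ← conj_mul, ← conj_inv, h.wM, h.wM, hm.conj_nn, hm.conj_nn, ← mul_assoc,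
          mul_comm _ i, mul_one]
        exact hs.mono_div _ hi0 (mul_ne_zero (hm.ne_zero _) (h0 j))
      have h11 : γ * u * γ⁻¹ * φ j (dM i) * (γ * u * γ⁻¹)⁻¹ = γ * (u * φ j y * u⁻¹) * γ⁻¹ := by
        rw [← ek, ← hγ]; group
      refine (t2 _ (wN_mem_weyl _) (hβ.wN_eq hA h h2 hi hN c3) j).imp (fun e => ?_) fun e => ?_
      · have := hA.ext_chr h10 (h.mono hs j hi0) fun r => by rw [e]
        rwa [h11, ← ek, ← hγ, mul_left_inj, mul_right_inj] at this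
      · have := hA.ext_chr h10 ((h.mono hs j hi0).inv (by simpa using R.isAut_one) |>.congr inv_one
          fun _ => rfl) fun r => by simp [e, A_ng_left]
        rwa [h11, ← ek, ← hγ, conj_inv, mul_left_inj, mul_right_inj, ← map_inv] at this
    have h10 : ∀ j, u * φ j y * u⁻¹ = φ j y → u * φ (![2, 1, 3, 0] j) y * u⁻¹ = φ (![2, 1, 3, 0] j) y :=
      fun j e => by simpa only [map_mul, map_inv, hy, mem_fx.1 (LL_le_fx _ hu)] using congrArg T.τ e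
    have h11 : u * φ 0 y * u⁻¹ = φ 0 y := by_contra fun n0 => by
      have n3 := mt (h10 3) n0
      have n2 := mt (h10 2) n3
      have h12 : δ y⁻¹ = δ y := by
        rw [hδ, ← (h9 0).resolve_left n0, ← (h9 2).resolve_left n2, ← (h9 3).resolve_left n3, conj_mul, conj_mul,
          ← hδ, ← c2.eq, mul_inv_cancel_right]
      have h13 : δ (-1) = 1 := by rw [← ey, map_mul]; nth_rw 1 [← h12]; rw [← map_mul, inv_mul_cancel, map_one]
      obtain ⟨r, hr⟩ := hβ.odd 1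
      have h14 := congrFun (hA.str.toIsModel.mono_unique (((hz 0).mul (hz 2)).mul (hz 3))
        (hδ _ ▸ h13 ▸ Mono.one)).2 r
      exact h2 (by simpa [hr.neg_one_zpow] using h14)
    intro j
    refine (mul_inv_eq_iff_eq_mul.1 ?_ : Commute u _).symm
    fin_cases j
    exacts [h11, mul_inv_eq_iff_eq_mul.2 c1.eq.symm, h10 0 h11, h10 2 (h10 0 h11)]
  refine key_sub _ ![φ 1 (wM 1), δ (wM 1)] ![φ 1 (bM s r), δ (bM s r)] (Fin.forall_fin_two.2 h7.1.1)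
    (Fin.forall_fin_two.2 h7.2.1) (Fin.forall_fin_two.2 ⟨(qp_wM hr hsr).map _, (qp_wM hr hsr).map _⟩)
    (Fin.forall_fin_two.2 ⟨Fin.forall_fin_two.2 ⟨by simp, fun _ => ⟨h8 _ _, h8 _ _, h8 _ _⟩⟩,
      Fin.forall_fin_two.2 ⟨fun _ => ⟨(h8 _ _).symm, (h8 _ _).symm, (h8 _ _).symm⟩, by simp⟩⟩) fun u hu h9 h10 => ?_
  refine Subgroup.closure_mono ?_ (hβ.mem_of_comm hA h h2 hr hsr h9 fun j =>
    ⟨key u hu g _ e1 wM_sq (Subgroup.mem_iInf.1 h7.1.2) (h10 0).1 (h10 1).1 j,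
      key u hu (g * g) _ (by rw [← e1, ← e2]; group) ((qp_wM hr hsr).sq.trans wM_sq) (Subgroup.mem_iInf.1 h7.2.2)
        (h10 0).2 (h10 1).2 j⟩)
  rintro _ ⟨j, rfl⟩
  exact ⟨0, (map_mul (φ 1) _ _).symm.trans ((congrArg (φ 1) wM_sq).trans (hA.ext_chr (hz 1) (hz j) fun _ => rfl))⟩

end Cfsg.Agent.Chev.StRoot
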