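import Mathlib
import Cfsg.Agent.Dz.ExcA

/-! # Frames in the exceptional root systems -/

set_option autoImplicit false
set_option backward.isDefEq.respectTransparency false

namespace Cfsg.Agent.Dz

open Cfsg.Lie Cfsg.Lie.ChevalleyDatum Cfsg.Agent.Chev Cfsg.Agent.KFI

theorem frm_of (D : ChevalleyDatum) [D.Good] {T W : ℕ → ℕ → ℤ} (hT : ∀ (r : D.Rt) (i : D.Nd), D.coef r i = T r i)
    (hW : ∀ (r : D.Rt) (i : D.Nd), D.wt r i = W r i) {n : ℕ} (β : Fin n → D.Rt) (C X Y : List (List ℤ))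
    (h0 : ∀ (j : Fin n) (i : D.Nd), D.co (β j) i = ent C j i) (h1 : ∀ j, D.nroots ≤ 2 * (β j : ℕ))
    (h2 : ∀ i j : Fin n, i ≠ j → ∑ k : D.Nd, ent C i k * W (β j) k = 0)
    (h3 : ∀ (j : Fin n) (r : D.Rt), (∑ k : D.Nd, ent C j k * W r k) % 2 = 0 →
      ∑ k : D.Nd, ent C j k * W r k = 0 ∨ (r : ℕ) = β j ∨ (r : ℕ) = D.nroots - 1 - β j)
    (h4 : ∀ j : Fin n, ∃ r : D.Rt, (∑ k : D.Nd, ent C j k * W r k) % 2 = 1)
    (h5 : ∀ r : D.Rt, ∑ j : Fin n, 2 ^ (j : ℕ) * ∑ k : D.Nd, ent C j k * W r k ≠ 0)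
    (h6 : ∀ i k : D.Nd, ((if k = i then 1 else 0) - ∑ j : Fin n, (∑ m : D.Nd, ent C j m * W (D.simple i) m) *
      ent Y j k - ∑ j : Fin n, ent X i j * T (β j) k) % 2 = 0) : D.stRoot.Frm β := by
  have hA : ∀ j r, D.stRoot.A (β j) r = ∑ k : D.Nd, ent C j k * W r k := fun j r => by
    rw [stRoot_A, pairing_eq_dot, dotProduct]
    exact Finset.sum_congr rfl fun k _ => by rw [hW, ← h0]; rfl
  refine ⟨fun j => (D.stRoot_pos _).2 ((D.isPos_iff_le _).2 (h1 j)), fun i j h => hA i _ ▸ h2 i j h,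
    fun j r h => ?_, fun j => (h4 j).imp fun r h => hA j r ▸ Int.odd_iff.2 h,
    ⟨fun j => 2 ^ (j : ℕ), fun r => by simpa only [hA] using h5 r⟩,
    fun i j => ent X i j, fun j k => ent Y j k, fun i k => Int.even_iff.2 ?_⟩
  · rw [hA] at h ⊢
    exact (h3 j r (Int.even_iff.1 h)).imp_right (Or.imp Fin.ext fun e => Fin.ext (e.trans (D.ng_val' _).symm))
  · simp only [hA, stRoot_co, hT]; exact h6 i k

theorem frm_G2 : chevG2.stRoot.Frm (![11, 7] : Fin 2 → Fin 12) :=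
  frm_of chevG2 (T := ent _) (W := fun r i => chevG2.cartan i r) coef_G2 (fun _ _ => rfl) _ [[1, 2], [1, 0]]
    [[0, 1], [0, 0]] [[0, 0], [0, 1]] (by decide +kernel) (by decide +kernel) (by decide +kernel)
    (by decide +kernel) (by decide +kernel) (by decide +kernel) (by decide +kernel)

theorem frm_F4 : chevF4.stRoot.Frm (![47, 41, 30, 25] : Fin 4 → Fin 48) :=
  frm_of chevF4 (T := ent _) (W := fun r i => chevF4.cartan i r) coef_F4 (fun _ _ => rfl) _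
    [[1, 2, 3, 2], [1, 1, 1, 0], [0, 1, 1, 0], [0, 0, 1, 0]]
    [[0, 0, 0, 0], [0, 0, 0, 0], [0, 0, 0, 1], [0, 0, 0, 0]] [[0, 0, 0, 0], [0, 1, 0, 1], [1, 1, 0, 1], [1, 0, 0, 1]]
    (by decide +kernel) (by decide +kernel) (by decide +kernel)
    (by decide +kernel) (by decide +kernel) (by decide +kernel) (by decide +kernel)

theorem frm_E6 : chevE6.stRoot.Frm (![71, 60, 44, 39] : Fin 4 → Fin 72) :=
  frm_of chevE6 (T := chevE6.co) (W := fun r i => chevE6.cartan i r) (chevE6.coef_eq_cw_of_sl slE6) (fun _ _ => rfl) _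
    [[1, 2, 2, 3, 2, 1], [1, 0, 1, 1, 1, 1], [0, 0, 1, 1, 1, 0], [0, 0, 0, 1, 0, 0]]
    [[0, 1, 1, 0], [0, 0, 0, 0], [0, 0, 1, 1], [0, 0, 0, 1], [0, 0, 0, 0], [0, 0, 0, 0]]
    [[0, 0, 0, 0, 0, 0], [0, 1, 0, 0, 1, 0], [0, 1, 0, 0, 1, 1], [0, 1, 0, 0, 0, 1]]
    (by decide +kernel) (by decide +kernel) (by decide +kernel)
    (by decide +kernel) (by decide +kernel) (by decide +kernel) (by decide +kernel)

theorem frm_E7 : chevE7.stRoot.Frm (![125, 92, 87, 78, 73, 66, 63] : Fin 7 → Fin 126) :=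
  frm_of chevE7 (T := chevE7.co) (W := fun r i => chevE7.cartan i r) (chevE7.coef_eq_cw_of_sl slE7) (fun _ _ => rfl) _
    [[2, 2, 3, 4, 3, 2, 1], [0, 1, 1, 2, 2, 2, 1], [0, 1, 1, 2, 1, 0, 0], [0, 1, 0, 0, 0, 0, 0], [0, 0, 1, 0, 0, 0, 0],
      [0, 0, 0, 0, 1, 0, 0], [0, 0, 0, 0, 0, 0, 1]]
    [[0, 0, 0, 0, 0, 0, 0], [0, 0, 0, 1, 0, 0, 0], [0, 0, 0, 0, 1, 0, 0], [0, 0, 0, 0, 0, 0, 0], [0, 0, 0, 0, 0, 1, 0],
      [0, 0, 0, 0, 0, 0, 0], [0, 0, 0, 0, 0, 0, 1]]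
    [[0, 0, 0, 0, 0, 0, 0], [0, 0, 0, 0, 0, 0, 0], [0, 0, 0, 0, 0, 0, 0], [0, 0, 0, 0, 0, 0, 0], [1, 0, 0, 0, 0, 0, 0],
      [1, 0, 0, 1, 0, 0, 0], [1, 0, 0, 1, 0, 1, 0]]
    (by decide +kernel) (by decide +kernel) (by decide +kernel)
    (by decide +kernel) (by decide +kernel) (by decide +kernel) (by decide +kernel)

theorem frm_E8 : chevE8.stRoot.Frm (![239, 226, 159, 152, 141, 135, 126, 121] : Fin 8 → Fin 240) :=
  frm_of chevE8 coef_E8 wtE8_eq _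
    [[2, 3, 4, 6, 5, 4, 3, 2], [2, 2, 3, 4, 3, 2, 1, 0], [0, 1, 1, 2, 2, 2, 1, 0], [0, 1, 1, 2, 1, 0, 0, 0],
      [0, 1, 0, 0, 0, 0, 0, 0], [0, 0, 1, 0, 0, 0, 0, 0], [0, 0, 0, 0, 1, 0, 0, 0], [0, 0, 0, 0, 0, 0, 1, 0]]
    [[0, 0, 0, 0, 0, 0, 0, 0], [0, 0, 0, 0, 1, 0, 0, 0], [0, 0, 0, 0, 0, 1, 0, 0], [0, 0, 0, 0, 0, 0, 0, 0],
      [0, 0, 0, 0, 0, 0, 1, 0], [0, 0, 0, 0, 0, 0, 0, 0], [0, 0, 0, 0, 0, 0, 0, 1], [0, 0, 0, 0, 0, 0, 0, 0]]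
    [[0, 0, 0, 0, 0, 0, 0, 0], [0, 0, 0, 0, 0, 0, 0, 0], [0, 0, 0, 0, 0, 0, 0, 0], [0, 0, 0, 0, 0, 0, 0, 0],
      [1, 0, 0, 1, 0, 1, 0, 1], [1, 0, 0, 0, 0, 0, 0, 0], [0, 0, 0, 0, 0, 1, 0, 1], [0, 0, 0, 0, 0, 0, 0, 1]]
    (by decide +kernel) (by decide +kernel) (by decide +kernel)
    (by decide +kernel) (by decide +kernel) (by decide +kernel) (by decide +kernel)

theorem frm_D4 : chevD4.stRoot.Frm d4b :=
  frm_of chevD4 (T := chevD4.co) (W := fun r i => chevD4.cartan i r) (chevD4.coef_eq_cw_of_sl slD4) (fun _ _ => rfl) _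
    [[1, 0, 0, 0], [1, 2, 1, 1], [0, 0, 1, 0], [0, 0, 0, 1]]
    [[0, 1, 1, 1], [0, 0, 0, 0], [0, 0, 1, 0], [0, 0, 0, 1]] [[0, 0, 0, 0], [0, 0, 0, 0], [0, 0, 0, 0], [0, 1, 0, 0]]
    (by decide +kernel) (by decide +kernel) (by decide +kernel)
    (by decide +kernel) (by decide +kernel) (by decide +kernel) (by decide +kernel)

theorem fix_E6 (j : Fin 4) : e6Sym.ρ ((![71, 60, 44, 39] : Fin 4 → Fin 72) j) = (![71, 60, 44, 39] : Fin 4 → Fin 72) j :=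
  e6Sym.ρ_eq_iff.2 (by revert j; decide +kernel)

theorem tri_D4 (j : Fin 4) : d4Sym.ρ (d4b j) = d4b (![2, 1, 3, 0] j) := d4Sym.ρ_eq_iff.2 (by revert j; decide +kernel)

theorem d4_t1 (r : chevD4.Rt) : ¬ (4 ∣ chevD4.stRoot.A (d4b 1) r ∧
    4 ∣ chevD4.stRoot.A (d4b 0) r + chevD4.stRoot.A (d4b 2) r + chevD4.stRoot.A (d4b 3) r) := by
  simp only [stRoot_A]
  revert r
  decide +kernel

theorem d4_t3 (j : Fin 4) (r : chevD4.Rt) : Even (chevD4.stRoot.A (d4b j) r + chevD4.stRoot.A (d4b 1) r) := by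
  simp only [stRoot_A]
  revert j r
  decide +kernel

theorem d4_t2 : ∀ w ∈ chevD4.stRoot.weyl, w (d4b 1) = d4b 1 → ∀ j, w (d4b j) = d4b j ∨
    w (d4b j) = chevD4.stRoot.ng (d4b j) := fun w hw h j => by
  have h1 := fun m => weyl_parity hw (a := d4b j) (b := d4b 1) (fun i => by
    rw [chevD4.stRoot_A_sr, chevD4.stRoot_A_sr]
    revert i j
    decide +kernel) m
  have h2 := (chevD4.stRoot.isAut_of_mem_weyl hw).A (d4b 1) (d4b j)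
  simp only [h, stRoot_co, chevD4.coef_eq_cw_of_sl slD4, stRoot_A, cw] at h1 h2
  rw [stRoot_ng, Fin.ext_iff, Fin.ext_iff, ng_val']
  generalize w (d4b j) = r at h1 h2
  revert r j
  decide +kernel

end Cfsg.Agent.Dz
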