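import Mathlib
import Cfsg.Agent.Dz.ExcC
import Cfsg.Agent.Dz.ExcT

/-! # The 2-central involutions of the exceptional groups -/

set_option autoImplicit false

namespace Cfsg.Agent.Dz

open Cfsg Cfsg.Lie Cfsg.Agent.Chev Cfsg.Lie.ChevalleyDatum Cfsg.Agent.KFI

theorem key_untw {X : Type*} [Group X] {p : ℕ} [Fact p.Prime] (h2 : p ≠ 2) (D : ChevalleyDatum) [D.Good]
    {n : ℕ} {β : Fin n → D.Rt} (hβ : D.stRoot.Frm β) {F : Type} [Field F] [Fintype F] [CharP F p]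
    (h : Nonempty (X ≃* D.group F)) : Key X := by
  obtain ⟨φ⟩ := h
  obtain ⟨e, -, hF⟩ := FiniteField.card F p
  have hL := locFin_algebraicClosure F p
  obtain ⟨S, h1, h4, ⟨ψ⟩⟩ := excM_model (D.fieldTwist (iterateFrobeniusEquiv (AlgebraicClosure F) p e)) h2 hL
    (D.fieldTwist (1 : RingAut F)) rfl rfl rfl (n := 1) e.ne_zero (by rw [pow_one, hF])
    (fun t => by rw [← hF, FiniteField.pow_card]; rfl) (fun t => iterateFrobenius_def _ _ t) fun _ => dvd_rfl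
  have h3 : D.group F = (D.fieldTwist (1 : RingAut F)).G1 := le_antisymm (fun g hg =>
    (mem_fieldTwist_G1 1 (RingHom.id F) (fun t => ⟨fun _ => ⟨t, rfl⟩, fun _ => rfl⟩) ⟨g, hg⟩).2
      ⟨_, fieldHom_id D _⟩) (Twist.G1_le_group _)
  refine ((amb D h2 hL).key_fix S h1 hβ fun j => ?_).of_equiv (φ.trans ((MulEquiv.subgroupCongr h3).trans ψ))
  rw [h4]
  exact (Sym.ρ_eq_iff _).2 fun i => rfl

theorem key_exc {X : Type*} [Group X] {p : ℕ} (hp : p.Prime) (h2 : p ≠ 2)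
    (h : IsExceptionalChevChar p X ∨ IsTwistedE6D4Char p X) : Key X := by
  have := Fact.mk hp
  rcases h with ⟨F, _, _, _, ⟨-, h⟩ | h | h | h | h⟩ | ⟨F, _, _, _, q, hq, ⟨hF, ⟨φ⟩⟩ | ⟨hF, ⟨φ⟩⟩⟩
  · exact key_untw h2 chevG2 frm_G2 h
  · exact key_untw h2 chevF4 frm_F4 h
  · exact key_untw h2 chevE6 frm_E6 h
  · exact key_untw h2 chevE7 frm_E7 h
  · exact key_untw h2 chevE8 frm_E8 h
  · obtain ⟨f, hf⟩ := tw_exists_frob hq two_ne_zero hF
    obtain ⟨e, he, rfl⟩ := excM_exp (p := p) hq two_ne_zero hF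
    have hL := locFin_algebraicClosure F p
    obtain ⟨S, h1, h3, ⟨ψ⟩⟩ := excM_model (twE6 (iterateFrobeniusEquiv (AlgebraicClosure F) p e)) h2 hL
      (twE6 f) rfl rfl rfl he hF hf (fun t => iterateFrobenius_def _ _ t) (by rw [twE6_d]; decide)
    exact ((amb chevE6 h2 hL).key_fix S h1 frm_E6 (h3 ▸ fix_E6)).of_equiv
      (φ.trans ((MulEquiv.subgroupCongr (twE6_G1 hF hf).symm).trans ψ))
  · obtain ⟨f, hf⟩ := tw_exists_frob hq three_ne_zero hF
    obtain ⟨e, he, rfl⟩ := excM_exp (p := p) hq three_ne_zero hF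
    have hL := locFin_algebraicClosure F p
    obtain ⟨S, h1, h3, ⟨ψ⟩⟩ := excM_model (twD4 (iterateFrobeniusEquiv (AlgebraicClosure F) p e)) h2 hL
      (twD4 f) rfl rfl rfl he hF hf (fun t => iterateFrobenius_def _ _ t) (by rw [twD4_d]; decide)
    exact ((amb chevD4 h2 hL).key_tri S h1 frm_D4 (h3 ▸ tri_D4) d4_t1 d4_t2 d4_t3).of_equiv
      (φ.trans ((MulEquiv.subgroupCongr (twD4_G1 hF hf).symm).trans ψ))

end Cfsg.Agent.Dz
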