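import Mathlib
import Cfsg.Agent.Dz.Defs
import Cfsg.Prelude.Def_Classical
import Cfsg.Agent.Cl.UOrder
import Cfsg.Agent.Cl.AutPSp

/-! 2-central involutions of linear, symplectic and unitary groups in odd characteristic. -/

set_option autoImplicit false
set_option linter.unusedSectionVars false

namespace Cfsg.Agent.Dz

open Matrix Subgroup

section Blk

variable {K : Type*} [Field K] {ι : Type*} [Fintype ι] [DecidableEq ι]

/-- The columns of the identity matrix with indices `e 0`, `e 1`. -/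
def Em (K : Type*) [Field K] (e : Fin 2 → ι) : Matrix ι (Fin 2) K := (1 : Matrix ι ι K).submatrix id e

/-- The rows of the identity matrix with indices `e 0`, `e 1`. -/
def Et (K : Type*) [Field K] (e : Fin 2 → ι) : Matrix (Fin 2) ι K := (1 : Matrix ι ι K).submatrix e id

/-- The matrix `A` on the indices `e 0`, `e 1` and the identity elsewhere. -/
def blk (e : Fin 2 → ι) (A : Matrix (Fin 2) (Fin 2) K) : Matrix ι ι K := 1 + Em K e * (A - 1) * Et K e

variable {e e' : Fin 2 → ι} {A B : Matrix (Fin 2) (Fin 2) K}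

theorem Em_apply (x : ι) (k : Fin 2) : Em K e x k = if x = e k then 1 else 0 := rfl

theorem Et_apply (x : ι) (k : Fin 2) : Et K e k x = if e k = x then 1 else 0 := rfl

theorem mul_Em (M : Matrix ι ι K) (e : Fin 2 → ι) : M * Em K e = M.submatrix id e := by
  conv_rhs => rw [← Matrix.mul_one M, submatrix_mul M 1 id id e Function.bijective_id]
  rfl

theorem Et_mul (M : Matrix ι ι K) (e : Fin 2 → ι) : Et K e * M = M.submatrix e id := by
  conv_rhs => rw [← Matrix.one_mul M, submatrix_mul 1 M e id id Function.bijective_id]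
  rfl

theorem Et_Em (e e' : Fin 2 → ι) : Et K e * Em K e' = (1 : Matrix ι ι K).submatrix e e' := by
  conv_rhs => rw [← Matrix.one_mul (1 : Matrix ι ι K), submatrix_mul 1 1 e id e' Function.bijective_id]
  rfl

theorem Et_Em_self (he : Function.Injective e) : Et K e * Em K e = 1 := by rw [Et_Em, submatrix_one e he]

theorem Et_Em_ne (h : ∀ k l, e k ≠ e' l) : Et K e * Em K e' = 0 := by
  rw [Et_Em]
  ext k l
  exact one_apply_ne (h k l)

theorem transpose_Em : (Em K e)ᵀ = Et K e := by rw [Em, transpose_submatrix, transpose_one]; rfl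

theorem transpose_Et : (Et K e)ᵀ = Em K e := by rw [← transpose_Em, transpose_transpose]

theorem blk_Em (he : Function.Injective e) : blk e A * Em K e = Em K e * A := by
  rw [blk, Matrix.add_mul, Matrix.one_mul, Matrix.mul_assoc, Et_Em_self he, Matrix.mul_one, Matrix.mul_sub,
    Matrix.mul_one, add_sub_cancel]

theorem Et_blk (he : Function.Injective e) : Et K e * blk e A = A * Et K e := by
  rw [blk, Matrix.mul_add, Matrix.mul_one, ← Matrix.mul_assoc, ← Matrix.mul_assoc, Et_Em_self he, Matrix.one_mul,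
    Matrix.sub_mul, Matrix.one_mul, add_sub_cancel]

theorem blk_Em_ne (h : ∀ k l, e k ≠ e' l) : blk e A * Em K e' = Em K e' := by
  rw [blk, Matrix.add_mul, Matrix.one_mul, Matrix.mul_assoc, Et_Em_ne h, Matrix.mul_zero, add_zero]

theorem Et_blk_ne (h : ∀ k l, e' k ≠ e l) : Et K e' * blk e A = Et K e' := by
  rw [blk, Matrix.mul_add, Matrix.mul_one, ← Matrix.mul_assoc, ← Matrix.mul_assoc, Et_Em_ne h, Matrix.zero_mul,
    Matrix.zero_mul, add_zero]

theorem blk_one : blk e (1 : Matrix (Fin 2) (Fin 2) K) = 1 := by simp [blk]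

theorem blk_mul (he : Function.Injective e) : blk e A * blk e B = blk e (A * B) := by
  rw [blk.eq_1 e B, Matrix.mul_add, Matrix.mul_one, ← Matrix.mul_assoc, ← Matrix.mul_assoc, blk_Em he, blk, blk,
    add_assoc, ← Matrix.add_mul, Matrix.mul_assoc _ A, ← Matrix.mul_add, Matrix.mul_sub A, Matrix.mul_one,
    sub_add_sub_cancel']

theorem blk_comm (h : ∀ k l, e k ≠ e' l) : blk e A * blk e' B = blk e' B * blk e A := by
  conv_lhs => rw [blk.eq_1 e' B, Matrix.mul_add, Matrix.mul_one, ← Matrix.mul_assoc, ← Matrix.mul_assoc, blk_Em_ne h]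
  conv_rhs => rw [blk.eq_1 e' B, Matrix.add_mul, Matrix.one_mul, Matrix.mul_assoc, Et_blk_ne fun k l => (h l k).symm]

theorem det_blk (he : Function.Injective e) : (blk e A).det = A.det := by
  rw [blk, det_one_add_mul_comm, ← Matrix.mul_assoc, Et_Em_self he, Matrix.one_mul, add_sub_cancel]

theorem transpose_blk : (blk e A)ᵀ = blk e Aᵀ := by
  rw [blk, blk, transpose_add, transpose_mul, transpose_mul, transpose_Em, transpose_Et, transpose_sub, transpose_one,
    transpose_one, Matrix.mul_assoc]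

theorem map_blk (σ : K →+* K) : (blk e A).map σ = blk e (A.map σ) := by
  have h1 : ∀ {m : Type _} [DecidableEq m], (1 : Matrix m m K).map σ = 1 := Matrix.map_one σ σ.map_zero σ.map_one
  have h2 : (1 : Matrix (Fin 2) (Fin 2) K).map σ = 1 := Matrix.map_one σ σ.map_zero σ.map_one
  rw [blk, blk, Matrix.map_add _ σ.map_add, Matrix.map_mul, Matrix.map_mul, Matrix.map_sub _ σ.map_sub, h1, h2, Em, Et,
    ← submatrix_map, ← submatrix_map, h1]

/-- The first quaternion generator. -/
def qA (K : Type*) [Field K] : Matrix (Fin 2) (Fin 2) K := !![0, 1; -1, 0]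

/-- The second quaternion generator. -/
def qB (s r : K) : Matrix (Fin 2) (Fin 2) K := !![s, r; r, -s]

theorem qA_sq : qA K * qA K = -1 := by
  ext i j
  fin_cases i <;> fin_cases j <;> simp [qA, mul_apply, Fin.sum_univ_two]

theorem qB_sq {s r : K} (h : s ^ 2 + r ^ 2 = -1) : qB s r * qB s r = -1 := by
  ext i j
  fin_cases i <;> fin_cases j <;> simp [qB, mul_apply, Fin.sum_univ_two] <;>
    first | linear_combination h | ring

theorem qABA (s r : K) : qA K * qB s r * qA K = qB s r := by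
  ext i j
  fin_cases i <;> fin_cases j <;> simp [qA, qB, mul_apply, Fin.sum_univ_two]

theorem det_qA : (qA K).det = 1 := by simp [qA, det_fin_two]

theorem det_qB {s r : K} (h : s ^ 2 + r ^ 2 = -1) : (qB s r).det = 1 := by
  simp only [qB, det_fin_two_of]
  linear_combination -h

theorem scalar_of_comm (h2 : (2 : K) ≠ 0) {s r : K} (h : s ^ 2 + r ^ 2 = -1) {M : Matrix (Fin 2) (Fin 2) K}
    (hA : M * qA K = qA K * M) (hB : M * qB s r = qB s r * M) : M = M 0 0 • 1 := by
  have a1 := congrFun (congrFun hA 0) 0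
  have a2 := congrFun (congrFun hA 0) 1
  have b1 := congrFun (congrFun hB 0) 0
  have b2 := congrFun (congrFun hB 0) 1
  simp only [qA, qB, mul_apply, Fin.sum_univ_two, of_apply, cons_val', cons_val_zero, cons_val_one,
    cons_val_fin_one] at a1 a2 b1 b2
  have c1 : M 0 1 = 0 := mul_left_cancel₀ h2 (by
    linear_combination 2 * M 0 1 * h - r * b1 + s * b2 + r * r * a1 - s * r * a2)
  ext i j
  fin_cases i <;> fin_cases j <;> simp
  · exact c1
  · linear_combination -a1 - c1
  · linear_combination -a2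

theorem sq_eq_of {M : Matrix ι ι K} {l m : K} (h : M * Em K e = l • Em K e) (h2 : M * M = m • 1) : l * l = m := by
  have h3 : M * M * Em K e = (l * l) • Em K e := by rw [Matrix.mul_assoc, h, Matrix.mul_smul, h, smul_smul]
  have h4 := congrFun (congrFun h3 (e 0)) 0
  rw [h2, Matrix.smul_mul, Matrix.one_mul] at h4
  simpa [Em_apply] using h4.symm

/-- A matrix commuting projectively with the block `A` and exactly with the block `-1`. -/
theorem comm_of_proj (h2 : (2 : K) ≠ 0) (he : Function.Injective e) {x : ι} (hx : ∀ k, x ≠ e k) {g g' : Matrix ι ι K}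
    (hg : g' * g = 1) (hz : g * blk e (-1) = blk e (-1) * g) {c : K} (h : g * blk e A = c • (blk e A * g)) :
    c = 1 := by
  have hx' : ∀ k l : Fin 2, e k ≠ (fun _ => x) l := fun k _ => (hx k).symm
  have h3 : Et K e * (g * Em K fun _ => x) = 0 := by
    have h3 := congrArg (fun M => Et K e * (M * Em K fun _ => x)) hz
    simp only [Matrix.mul_assoc, blk_Em_ne hx'] at h3
    rw [← Matrix.mul_assoc _ (blk e _), Et_blk he, Matrix.neg_mul, Matrix.one_mul, Matrix.neg_mul,
      ← add_eq_zero_iff_eq_neg, ← two_smul K] at h3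
    exact (smul_eq_zero.1 h3).resolve_left h2
  have h4 := congrArg (fun M => g' * (M * Em K fun _ => x)) h
  simp only [Matrix.mul_assoc, blk_Em_ne hx', Matrix.smul_mul, Matrix.mul_smul] at h4
  rw [blk, Matrix.add_mul, Matrix.one_mul, Matrix.mul_assoc, h3, Matrix.mul_zero, add_zero, ← Matrix.mul_assoc, hg,
    Matrix.one_mul] at h4
  simpa [Em_apply] using (congrFun (congrFun h4 x) 0).symm

theorem eigen_of_comm (h2 : (2 : K) ≠ 0) (he : Function.Injective e) {s r : K} (h : s ^ 2 + r ^ 2 = -1)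
    {g : Matrix ι ι K} (hA : g * blk e (qA K) = blk e (qA K) * g) (hB : g * blk e (qB s r) = blk e (qB s r) * g) :
    ∃ l : K, g * Em K e = l • Em K e ∧ Et K e * g = l • Et K e := by
  have hz : g * blk e (-1) = blk e (-1) * g := by
    rw [← qA_sq, ← blk_mul he, ← Matrix.mul_assoc, hA, Matrix.mul_assoc, hA, Matrix.mul_assoc]
  have hP : g * (Em K e * Et K e) = Em K e * Et K e * g := by
    have h1 : blk e (-1 : Matrix (Fin 2) (Fin 2) K) = 1 - (2 : K) • (Em K e * Et K e) := by
      rw [blk, ← neg_add', Matrix.mul_neg, Matrix.neg_mul, Matrix.mul_add, Matrix.mul_one, Matrix.add_mul, two_smul,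
        sub_eq_add_neg]
    rw [h1, Matrix.mul_sub, Matrix.sub_mul, Matrix.mul_one, Matrix.one_mul, sub_right_inj, Matrix.mul_smul,
      Matrix.smul_mul] at hz
    exact smul_right_injective _ h2 hz
  have h1 : g * Em K e = Em K e * (Et K e * g * Em K e) := by
    rw [← Matrix.mul_assoc, ← Matrix.mul_assoc, ← hP, Matrix.mul_assoc, Matrix.mul_assoc, Et_Em_self he,
      Matrix.mul_one]
  have h3 : Et K e * g = Et K e * g * Em K e * Et K e := by
    rw [Matrix.mul_assoc, Matrix.mul_assoc, hP, ← Matrix.mul_assoc, ← Matrix.mul_assoc, Et_Em_self he,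
      Matrix.one_mul]
  have key : ∀ A, g * blk e A = blk e A * g → Et K e * g * Em K e * A = A * (Et K e * g * Em K e) := fun A hA => by
    rw [Matrix.mul_assoc, ← blk_Em he, ← Matrix.mul_assoc, Matrix.mul_assoc _ g, hA, ← Matrix.mul_assoc, Et_blk he,
      Matrix.mul_assoc, Matrix.mul_assoc, Matrix.mul_assoc]
  have h4 := scalar_of_comm h2 h (key _ hA) (key _ hB)
  generalize (Et K e * g * Em K e) 0 0 = l at h4
  exact ⟨l, by rw [h1, h4, Matrix.mul_smul, Matrix.mul_one], by rw [h3, h4, Matrix.smul_mul, Matrix.one_mul]⟩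

theorem key_blk (h2 : (2 : K) ≠ 0) {X : Type*} [Group X] (toM : X →* Matrix ι ι K) (inj : Function.Injective toM)
    (hZ : ∀ c ∈ center X, ∃ k : K, toM c = k • 1) {J : Type*} [Finite J] [Nonempty J] (e : J → Fin 2 → ι)
    (he : ∀ i j k l, e i k = e j l → i = j ∧ k = l)
    (hout : ∀ x y, (∀ j k, x ≠ e j k) → (∀ j k, y ≠ e j k) → x = y) (hex : ∀ j, ∃ x, ∀ k, x ≠ e j k)
    {s r : K} (h : s ^ 2 + r ^ 2 = -1) (a b : J → X) (ha : ∀ j, toM (a j) = blk (e j) (qA K))
    (hb : ∀ j, toM (b j) = blk (e j) (qB s r)) : Key (X ⧸ center X) := by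
  classical
  have he1 : ∀ j, Function.Injective (e j) := fun j k l e => (he j j k l e).2
  have he2 : ∀ i j, i ≠ j → ∀ k l, e i k ≠ e j l := fun i j hij k l e => hij (he i j k l e).1
  have haa : ∀ j, toM (a j * a j) = blk (e j) (-1) := fun j => by rw [map_mul, ha, blk_mul (he1 j), qA_sq]
  have hq : ∀ j, QP (a j) (b j) := fun j => ⟨inj (by
      rw [map_mul, haa, blk_mul (he1 j), neg_mul_neg, Matrix.one_mul, blk_one, map_one]),
    inj (by rw [haa, map_mul, hb, blk_mul (he1 j), qB_sq h]), by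
      rw [mul_inv_eq_iff_eq_mul, eq_inv_mul_iff_mul_eq, ← mul_assoc]
      exact inj (by rw [map_mul, map_mul, ha, hb, blk_mul (he1 j), blk_mul (he1 j), qABA])⟩
  refine key_of_qp (fun j => (a j : X ⧸ center X)) (fun j => (b j : X ⧸ center X))
    (fun j => (hq j).map (QuotientGroup.mk' _)) (fun i j hij => ?_) fun u _ u2 hu => ?_
  · have k : ∀ {x y : X}, toM x * toM y = toM y * toM x → Commute (x : X ⧸ center X) y := fun e =>
      Commute.map (inj (by rwa [map_mul, map_mul])) (QuotientGroup.mk' _)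
    refine ⟨k ?_, k ?_, k ?_⟩ <;> simp only [ha, hb, blk_comm (he2 i j hij)]
  obtain ⟨g, rfl⟩ := QuotientGroup.mk_surjective u
  have k1 : ∀ x : X, Commute (x : X ⧸ center X) g → ∃ c ∈ center X, g * x = c * (x * g) := fun x hx =>
    ⟨_, QuotientGroup.eq.1 hx.eq, by rw [← mem_center_iff.1 (QuotientGroup.eq.1 hx.eq), mul_inv_cancel_left]⟩
  have k2 : ∀ j, ∃ l : K, toM g * Em K (e j) = l • Em K (e j) ∧ Et K (e j) * toM g = l • Et K (e j) := fun j => by
    obtain ⟨c, hc, e1⟩ := k1 _ (hu j).1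
    obtain ⟨d, hd, e2⟩ := k1 _ (hu j).2
    have z1 : g * (a j * a j) = a j * a j * g := by
      have z1 : a j * a j = a j * (b j * (a j)⁻¹ * (b j)⁻¹) := by
        rw [← conj_inv, (hq j).cj, inv_inv]
      have c1 := mem_center_iff.1 hc
      have d1 := mem_center_iff.1 hd
      rw [z1, ← mul_inv_eq_iff_eq_mul]
      calc _ = g * a j * (g⁻¹ * (g * b j) * ((g * a j)⁻¹ * g)) * (g * b j)⁻¹ := by group
        _ = c * (a j * d * b j * (a j)⁻¹) * c⁻¹ * (b j)⁻¹ * d⁻¹ := by rw [e1, e2]; group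
        _ = d * (a j * (b j * (a j)⁻¹ * (b j)⁻¹)) * d⁻¹ := by rw [← c1, mul_inv_cancel_right, d1 (a j)]; group
        _ = _ := by rw [← d1, mul_inv_cancel_right]
    obtain ⟨x, hx⟩ := hex j
    have z2 : toM g * blk (e j) (-1) = blk (e j) (-1) * toM g := by rw [← haa, ← map_mul, z1, map_mul]
    have z3 : toM g⁻¹ * toM g = 1 := by rw [← map_mul, inv_mul_cancel, map_one]
    have z4 : ∀ (x : X) (A), toM x = blk (e j) A → ∀ c ∈ center X, g * x = c * (x * g) →
        toM g * blk (e j) A = blk (e j) A * toM g := fun x A hA c hc e1 => by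
      obtain ⟨k, hk⟩ := hZ c hc
      have e2 : toM g * blk (e j) A = k • (blk (e j) A * toM g) := by
        rw [← hA, ← map_mul, e1, map_mul, hk, map_mul, Matrix.smul_mul, Matrix.one_mul]
      rw [e2, comm_of_proj h2 (he1 j) hx z3 z2 e2, one_smul]
    exact eigen_of_comm h2 (he1 j) h (z4 _ _ (ha j) c hc e1) (z4 _ _ (hb j) d hd e2)
  choose lam k2 k3 using k2
  obtain ⟨m, hm⟩ := hZ (g * g) ((QuotientGroup.eq_one_iff _).1 u2)
  rw [map_mul] at hm
  have k4 : ∀ x, (∀ j k, x ≠ e j k) → toM g * Em K (fun _ => x) = toM g x x • Em K fun _ => x := fun x hx => by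
    rw [mul_Em]
    ext y k
    by_cases hy : y = x
    · simp [Em_apply, hy]
    obtain ⟨j, l, rfl⟩ : ∃ j l, y = e j l := by
      by_contra h3
      push Not at h3
      exact hy (hout y x h3 hx)
    have h3 := congrFun (congrFun (k3 j) l) x
    rw [Et_mul] at h3
    simpa [Em_apply, Et_apply, hy] using h3
  obtain ⟨l, l1, l2⟩ : ∃ l : K, l * l = m ∧ ∀ x, (∀ j k, x ≠ e j k) →
      toM g * Em K (fun _ => x) = l • Em K fun _ => x := by
    by_cases h3 : ∃ x, ∀ j k, x ≠ e j k
    · obtain ⟨x, hx⟩ := h3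
      exact ⟨_, sq_eq_of (k4 x hx) hm, fun y hy => hout x y hx hy ▸ k4 x hx⟩
    · exact ⟨_, sq_eq_of (k2 (Classical.arbitrary J)) hm, fun x hx => absurd ⟨x, hx⟩ h3⟩
  have main : ∀ (t : Finset J) (w : X), (∀ j, toM w * Em K (e j) = l • Em K (e j) ∨
      (j ∈ t ∧ toM w * Em K (e j) = -l • Em K (e j))) → (∀ x, (∀ j k, x ≠ e j k) →
      toM w * Em K (fun _ => x) = l • Em K fun _ => x) → (w : X ⧸ center X) ∈ SqC (g : X ⧸ center X) := by
    intro t
    induction t using Finset.induction_on with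
    | empty =>
      intro w w1 w2
      have w3 : toM w = l • 1 := by
        ext x y
        by_cases hy : ∃ j k, y = e j k
        · obtain ⟨j, k, rfl⟩ := hy
          have h3 := congrFun (congrFun ((w1 j).resolve_right fun e => Finset.notMem_empty _ e.1) x) k
          rwa [mul_Em] at h3
        · push Not at hy
          have h3 := congrFun (congrFun (w2 y hy) x) 0
          rwa [mul_Em] at h3
      rw [(QuotientGroup.eq_one_iff w).2 (mem_center_iff.2 fun x => inj (by
        rw [map_mul, map_mul, w3, Matrix.mul_smul, Matrix.smul_mul, Matrix.mul_one, Matrix.one_mul]))]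
      exact one_mem _
    | insert j t hj ih =>
      intro w w1 w2
      by_cases h3 : toM w * Em K (e j) = l • Em K (e j)
      · refine ih w (fun i => (w1 i).elim .inl fun e1 => ?_) w2
        rcases Finset.mem_insert.1 e1.1 with rfl | e2
        exacts [.inl h3, .inr ⟨e2, e1.2⟩]
      refine (mul_mem_cancel_right (sq_mem (hu j).1)).1 (ih (w * (a j * a j)) (fun i => ?_) fun x hx => ?_)
      · rw [map_mul, haa, Matrix.mul_assoc]
        by_cases e1 : i = j
        · rw [e1, blk_Em (he1 j), Matrix.mul_neg, Matrix.mul_one, Matrix.mul_neg, ((w1 j).resolve_left h3).2, neg_smul,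
            neg_neg]
          exact .inl rfl
        · rw [blk_Em_ne (he2 j i (Ne.symm e1))]
          exact (w1 i).imp_right fun e2 => ⟨(Finset.mem_insert.1 e2.1).resolve_left e1, e2.2⟩
      · rw [map_mul, haa, Matrix.mul_assoc, blk_Em_ne fun k _ => (hx j k).symm]
        exact w2 x hx
  have := Fintype.ofFinite J
  refine main Finset.univ g (fun j => ?_) l2
  rcases mul_self_eq_mul_self_iff.1 ((sq_eq_of (k2 j) hm).trans l1.symm) with e1 | e1
  exacts [.inl (e1 ▸ k2 j), .inr ⟨Finset.mem_univ _, e1 ▸ k2 j⟩]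

end Blk

variable {K : Type*} [Field K] [Fintype K]

theorem exists_sr (K : Type*) [Field K] [Fintype K] : ∃ s r : K, s ^ 2 + r ^ 2 = -1 := by
  obtain ⟨p, hp⟩ := CharP.exists K
  have := Fact.mk (CharP.char_is_prime K p)
  obtain ⟨s, r, -, h, -⟩ := exists_sq_add_sq K p
  exact ⟨s, r, h⟩

/-- The pairs `2 j`, `2 j + 1`. -/
def pairs (n : ℕ) (j : Fin (n / 2)) (k : Fin 2) : Fin n := ⟨2 * j + k, by omega⟩

theorem pairs_inj {n : ℕ} (i j : Fin (n / 2)) (k l : Fin 2) (e : pairs n i k = pairs n j l) : i = j ∧ k = l := by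
  simp only [pairs, Fin.ext_iff] at e ⊢
  omega

theorem pairs_out {n : ℕ} (x y : Fin n) (hx : ∀ j k, x ≠ pairs n j k) (hy : ∀ j k, y ≠ pairs n j k) : x = y := by
  have key : ∀ x : Fin n, (∀ j k, x ≠ pairs n j k) → n / 2 ≤ x / 2 := fun x hx => not_lt.1 fun h =>
    hx ⟨x / 2, h⟩ ⟨x % 2, Nat.mod_lt _ two_pos⟩ (Fin.ext (Nat.div_add_mod _ _).symm)
  have h1 := key x hx
  have h2 := key y hy
  omega

theorem pairs_ex {n : ℕ} (hn : 3 ≤ n) (j : Fin (n / 2)) : ∃ x, ∀ k, x ≠ pairs n j k := by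
  by_cases h : (j : ℕ) = 0
  · exact ⟨⟨2, by omega⟩, fun k => by simp only [pairs, Ne, Fin.ext_iff]; omega⟩
  · exact ⟨⟨0, by omega⟩, fun k => by simp only [pairs, Ne, Fin.ext_iff]; omega⟩

theorem key_psl (h2 : (2 : K) ≠ 0) {n : ℕ} (hn : 3 ≤ n) : Key (Matrix.ProjectiveSpecialLinearGroup (Fin n) K) := by
  obtain ⟨s, r, h⟩ := exists_sr K
  have : Nonempty (Fin (n / 2)) := ⟨⟨0, by omega⟩⟩
  have he : ∀ j, Function.Injective (pairs n j) := fun j k l e => (pairs_inj j j k l e).2
  refine key_blk h2 (slToMat n K) (fun _ _ e => Subtype.ext e) (fun c hc => ?_) (pairs n) pairs_inj pairs_out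
    (pairs_ex hn) h (fun j => ⟨_, (det_blk (he j)).trans det_qA⟩) (fun j => ⟨_, (det_blk (he j)).trans (det_qB h)⟩)
    (fun _ => rfl) fun _ => rfl
  obtain ⟨k, -, hk⟩ := Matrix.SpecialLinearGroup.mem_center_iff.1 hc
  exact ⟨k, hk.symm.trans (smul_one_eq_diagonal k).symm⟩

theorem blk_mem_sp {m : ℕ} (j : Fin m) {A : Matrix (Fin 2) (Fin 2) K} (hA : A.det = 1) :
    blk ![Sum.inl j, Sum.inr j] A ∈ symplecticGroup (Fin m) K := by
  have he : Function.Injective (![Sum.inl j, Sum.inr j] : Fin 2 → Fin m ⊕ Fin m) := fun k l e => by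
    fin_cases k <;> fin_cases l <;> simp_all
  have h1 : J (Fin m) K * Em K ![Sum.inl j, Sum.inr j] = Em K ![Sum.inl j, Sum.inr j] * (!![0, -1; 1, 0] : Matrix _ _ K) := by
    rw [mul_Em]
    ext x k
    fin_cases k <;> rcases x with x | x <;>
      simp [J, Em_apply, mul_apply, Fin.sum_univ_two, one_apply]
    split_ifs <;> simp
  have h2 : Et K ![Sum.inl j, Sum.inr j] * J (Fin m) K = (!![0, -1; 1, 0] : Matrix _ _ K) * Et K ![Sum.inl j, Sum.inr j] := by
    rw [Et_mul]
    ext k x
    fin_cases k <;> rcases x with x | x <;>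
      simp [J, Et_apply, mul_apply, Fin.sum_univ_two, one_apply]
    split_ifs <;> simp
  have h3 : (A - 1) * !![0, -1; 1, 0] + A * !![0, -1; 1, 0] * (Aᵀ - 1) = 0 := by
    rw [det_fin_two] at hA
    ext k l
    fin_cases k <;> fin_cases l <;> simp [mul_apply, Fin.sum_univ_two] <;>
      first | ring1 | linear_combination hA | linear_combination -hA
  rw [SymplecticGroup.mem_iff, transpose_blk, blk.eq_1 _ Aᵀ, Matrix.mul_add, Matrix.mul_one, ← Matrix.mul_assoc,
    ← Matrix.mul_assoc, Matrix.mul_assoc (blk _ A), h1, ← Matrix.mul_assoc, blk_Em he, blk, Matrix.add_mul,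
    Matrix.one_mul, add_assoc, add_eq_left, Matrix.mul_assoc _ (Et K _), h2, ← Matrix.mul_assoc, ← Matrix.add_mul,
    Matrix.mul_assoc, Matrix.mul_assoc _ A, Matrix.mul_assoc _ (A * _), ← Matrix.mul_add, h3, Matrix.mul_zero,
    Matrix.zero_mul]

theorem key_psp (h2 : (2 : K) ≠ 0) {m : ℕ} (hm : 2 ≤ m) : Key (PSp m K) := by
  obtain ⟨s, r, h⟩ := exists_sr K
  have : Nonempty (Fin m) := ⟨⟨0, by omega⟩⟩
  refine key_blk h2 (symplecticGroup (Fin m) K).subtype Subtype.val_injective (Cl.Aut.spInc_center hm)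
    (fun j => ![Sum.inl j, Sum.inr j]) (fun i j k l e => ?_) (fun x y hx _ => ?_) (fun j => ?_) h
    (fun j => ⟨_, blk_mem_sp j det_qA⟩) (fun j => ⟨_, blk_mem_sp j (det_qB h)⟩) (fun _ => rfl) fun _ => rfl
  · fin_cases k <;> fin_cases l <;> simp_all
  · rcases x with x | x
    exacts [absurd rfl (hx x 0), absurd rfl (hx x 1)]
  · have : Nontrivial (Fin m) := Fin.nontrivial_iff_two_le.2 hm
    obtain ⟨i, hi⟩ := exists_ne j
    exact ⟨Sum.inl i, fun k => by fin_cases k <;> simp [hi]⟩

theorem key_psu (h2 : (2 : K) ≠ 0) {n q : ℕ} (hK : Fintype.card K = q ^ 2) (hn : 3 ≤ n) : Key (PSU n K q) := by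
  obtain ⟨σ, hq⟩ := Cl.exists_uField hK
  obtain ⟨s, r, h, hs, hr⟩ : ∃ s r : K, s ^ 2 + r ^ 2 = -1 ∧ σ s = -s ∧ σ r = -r := by
    obtain ⟨i, hi⟩ := (FiniteField.isSquare_neg_one_iff (F := K)).2 (by
      rw [hK, Nat.pow_mod]
      have : q % 4 < 4 := Nat.mod_lt _ (by norm_num)
      interval_cases q % 4 <;> simp)
    have h3 : σ i * σ i = i * i := by rw [← map_mul, ← hi, map_neg, map_one]
    rcases mul_self_eq_mul_self_iff.1 h3 with h4 | h4
    · obtain ⟨d, d0, hd⟩ := hq.invol.exists_trace_zero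
      have i0 : i ≠ 0 := fun e => by simp [e] at hi
      refine ⟨(d - d⁻¹) / 2, -(d + d⁻¹) / (2 * i), ?_, ?_, ?_⟩
      · field_simp
        linear_combination (-(d ^ 2 - 1) ^ 2 - 4 * d ^ 2) * hi
      · rw [map_div₀, map_sub, map_inv₀, map_ofNat, hd]
        field_simp
        ring
      · rw [map_div₀, map_neg, map_add, map_inv₀, map_mul, map_ofNat, hd, h4]
        field_simp
        ring
    · exact ⟨i, 0, by rw [hi]; ring, h4, by simp⟩
  have : Nonempty (Fin (n / 2)) := ⟨⟨0, by omega⟩⟩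
  have he : ∀ j, Function.Injective (pairs n j) := fun j k l e => (pairs_inj j j k l e).2
  have key : ∀ j {A : Matrix (Fin 2) (Fin 2) K} (hA : A.det = 1), Aᵀ * A.map σ = 1 →
      (⟨_, (det_blk (he j)).trans hA⟩ : Matrix.SpecialLinearGroup (Fin n) K) ∈ SU n K q := fun j A hA h1 =>
    (hq.mem_SU_iff _).2 (show (blk _ A)ᵀ * (blk _ A).map σ = 1 by
      rw [transpose_blk, map_blk, blk_mul (he j), h1, blk_one])
  have kA : (qA K)ᵀ * (qA K).map σ = 1 := by
    ext i j
    fin_cases i <;> fin_cases j <;> simp [qA, mul_apply, Fin.sum_univ_two]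
  have kB : (qB s r)ᵀ * (qB s r).map σ = 1 := by
    ext i j
    fin_cases i <;> fin_cases j <;> simp [qB, mul_apply, Fin.sum_univ_two, hs, hr] <;>
      first | linear_combination -h | ring
  exact key_blk h2 ((slToMat n K).comp (SU n K q).subtype) (fun _ _ e => Subtype.ext (Subtype.ext e))
    (fun c hc => (hq.mem_center_SU_iff (by omega)).1 hc) (pairs n) pairs_inj pairs_out (pairs_ex hn) h
    (fun j => ⟨_, key j det_qA kA⟩) (fun j => ⟨_, key j (det_qB h) kB⟩) (fun _ => rfl) fun _ => rfl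

end Cfsg.Agent.Dz
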