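import Mathlib
import Cfsg.Agent.Dz.Defs
import Cfsg.Prelude.Def_Classical
import Cfsg.Agent.Cl.OrthSimple
import Cfsg.Agent.Cl.DerSL3

/-! # `Key` for the orthogonal groups in odd characteristic -/

set_option autoImplicit false

namespace Cfsg.Agent.Dz

open QuadraticMap Module Cfsg.Agent.Cl

section Frame

variable {K V J : Type*} [Field K] [AddCommGroup V] [Module K V] {Q : QuadraticForm K V}

/-- An orthogonal frame of non-singular vectors with trivial orthogonal complement. -/
structure OFr (Q : QuadraticForm K V) (e : J → V) : Prop where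
  orth : ∀ i j, i ≠ j → polar Q (e i) (e j) = 0
  ne : ∀ i, Q (e i) ≠ 0
  zero : ∀ x, (∀ i, polar Q x (e i) = 0) → x = 0

theorem OFr.ext {e : J → V} (h : OFr Q e) {g k : OG Q} (hg : ∀ i, g.1 (e i) = k.1 (e i)) : g = k := by
  have h1 : k⁻¹ * g = 1 := OG.ext fun x => by
    rw [OG.one_app, ← sub_eq_zero]
    refine h.zero _ fun i => ?_
    have h2 : (k⁻¹ * g).1 (e i) = e i := by rw [OG.mul_app, hg, OG.inv_app_app]
    rw [polar_sub_left, sub_eq_zero]
    conv_lhs => rw [← h2]
    exact OG.polar_app _ _ _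
  exact (inv_mul_eq_one.1 h1).symm

theorem OFr.eig {e : J → V} (h : OFr Q e) (h2 : (2 : K) ≠ 0) {i : J} {v : V}
    (h1 : ∀ k, k ≠ i → polar Q v (e k) = 0) (hv : Q v = Q (e i)) : v = e i ∨ v = -e i := by
  have hi := h.ne i
  obtain ⟨c, hc⟩ : ∃ c : K, v = c • e i := by
    refine ⟨polar Q v (e i) / (2 * Q (e i)), sub_eq_zero.1 (h.zero _ fun k => ?_)⟩
    rw [polar_sub_left, polar_smul_left]
    by_cases hk : k = i
    · subst hk
      rw [polar_self, smul_eq_mul, nsmul_eq_mul]
      field_simp
      ring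
    · rw [h1 k hk, h.orth i k (Ne.symm hk)]; simp
  rw [hc, QuadraticMap.map_smul, smul_eq_mul] at hv
  have h3 : c * c = 1 := mul_right_cancel₀ hi (by rw [hv, one_mul])
  rcases mul_self_eq_one_iff.1 h3 with rfl | rfl
  · left; simpa using hc
  · right; simpa using hc

theorem OFr.step [Fintype K] [DecidableEq J] {e : J → V} (h : OFr Q e) (h2 : (2 : K) ≠ 0) {i l : J} (hil : i ≠ l) :
    ∃ e' : J → V, OFr Q e' ∧ Q (e' i) = 1 ∧ ∀ k, k ≠ i → k ≠ l → e' k = e k := by
  obtain ⟨s, t, hst⟩ := Der.exists_sq_add_mul_sq h2 (div_ne_zero (h.ne l) (h.ne i)) (Q (e i))⁻¹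
  have hi := h.ne i
  have hl := h.ne l
  set a := Q (e i) with ha
  set b := Q (e l) with hb
  have h1 : a * s ^ 2 + b * t ^ 2 = 1 := by
    field_simp at hst
    linear_combination hst
  have hil0 := h.orth i l hil
  have hli0 := h.orth l i hil.symm
  have hii : polar Q (e i) (e i) = 2 * a := by rw [polar_self, nsmul_eq_mul]; norm_num [ha]
  have hll : polar Q (e l) (e l) = 2 * b := by rw [polar_self, nsmul_eq_mul]; norm_num [hb]
  have hn : ∀ x y : K, Q (x • e i + y • e l) = a * x ^ 2 + b * y ^ 2 := fun x y => by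
    rw [QuadraticMap.map_add Q, QuadraticMap.map_smul, QuadraticMap.map_smul, polar_smul_left, polar_smul_right, hil0]
    simp only [smul_eq_mul]; ring
  let e' : J → V := fun k => if k = i then s • e i + t • e l else
    if k = l then (-(t * b)) • e i + (s * a) • e l else e k
  have ei : e' i = s • e i + t • e l := by simp [e']
  have el : e' l = (-(t * b)) • e i + (s * a) • e l := by simp [e', hil.symm]
  have ek : ∀ k, k ≠ i → k ≠ l → e' k = e k := fun k h1 h2 => by simp [e', h1, h2]
  have o1 : polar Q (e' i) (e' l) = 0 := by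
    rw [ei, el]
    simp only [polar_add_left, polar_add_right, polar_smul_left, polar_smul_right, hii, hll, hil0, hli0, smul_eq_mul]
    ring
  have o2 : ∀ k, k ≠ i → k ≠ l → ∀ x y : K, polar Q (x • e i + y • e l) (e k) = 0 := fun k h1 h2 x y => by
    simp only [polar_add_left, polar_smul_left, h.orth i k h1.symm, h.orth l k h2.symm, smul_zero, add_zero]
  refine ⟨e', ⟨fun p q hpq => ?_, fun p => ?_, fun x hx => h.zero x fun k => ?_⟩, by rw [ei, hn, h1], ek⟩
  · by_cases hp : p = i
    · subst hp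
      by_cases hq : q = l
      · subst hq; exact o1
      · rw [ek q (Ne.symm hpq) hq, ei]; exact o2 q (Ne.symm hpq) hq _ _
    · by_cases hp' : p = l
      · subst hp'
        by_cases hq : q = i
        · subst hq; rw [polar_comm]; exact o1
        · rw [ek q hq (Ne.symm hpq), el]; exact o2 q hq (Ne.symm hpq) _ _
      · rw [ek p hp hp']
        by_cases hq : q = i
        · subst hq; rw [polar_comm, ei]; exact o2 p hp hp' _ _
        · by_cases hq' : q = l
          · subst hq'; rw [polar_comm, el]; exact o2 p hp hp' _ _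
          · rw [ek q hq hq']; exact h.orth p q hpq
  · by_cases hp : p = i
    · subst hp; rw [ei, hn, h1]; exact one_ne_zero
    · by_cases hp' : p = l
      · subst hp'
        rw [el, hn, show a * (-(t * b)) ^ 2 + b * (s * a) ^ 2 = a * b * (a * s ^ 2 + b * t ^ 2) by ring, h1, mul_one]
        exact mul_ne_zero hi hl
      · rw [ek p hp hp']; exact h.ne p
  · have x1 := hx i
    have x2 := hx l
    rw [ei] at x1
    rw [el] at x2
    simp only [polar_add_right, polar_smul_right, smul_eq_mul] at x1 x2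
    by_cases hp : k = i
    · subst hp; linear_combination (s * a) * x1 - t * x2 - polar Q x (e k) * h1
    · by_cases hp' : k = l
      · subst hp'; linear_combination (t * b) * x1 + s * x2 - polar Q x (e k) * h1
      · rw [← ek k hp hp']; exact hx k

theorem exists_oFr [Fintype K] [FiniteDimensional K V] (h2 : (2 : K) ≠ 0) (hQ : (polarBilin Q).Nondegenerate)
    (l : Fin (finrank K V)) :
    ∃ e : Fin (finrank K V) → V, OFr Q e ∧ ∀ i, Q (e i) = 1 ∨ (i = l ∧ ¬ IsSquare (Q (e i))) := by
  classical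
  have := invertibleOfNonzero h2
  obtain ⟨v, hv⟩ := LinearMap.BilinForm.exists_orthogonal_basis (B := polarBilin Q)
    ⟨fun x y => by simpa using polar_comm Q x y⟩
  have hz : ∀ x, (∀ i, polar Q x (v i) = 0) → x = 0 := fun x hx =>
    hQ.1 x fun y => by
      have : polarBilin Q x = 0 := v.ext fun i => by simpa using hx i
      rw [this]; rfl
  have h0 : OFr Q v := ⟨fun i j hij => by simpa using hv hij, fun i hi => v.ne_zero i (hz _ fun k => by
    by_cases hk : k = i
    · subst hk; rw [polar_self, hi]; simp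
    · simpa using hv (Ne.symm hk)), hz⟩
  have h1 : ∀ s : Finset (Fin (finrank K V)), l ∉ s → ∃ e, OFr Q e ∧ ∀ i ∈ s, Q (e i) = 1 := by
    intro s
    induction s using Finset.induction_on with
    | empty => exact fun _ => ⟨v, h0, by simp⟩
    | insert i s hi ih =>
      intro hl
      rw [Finset.mem_insert, not_or] at hl
      obtain ⟨e, he, h⟩ := ih hl.2
      obtain ⟨e', he', h3, h4⟩ := he.step h2 (Ne.symm hl.1)
      refine ⟨e', he', fun k hk => ?_⟩
      rcases Finset.mem_insert.1 hk with rfl | hk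
      · exact h3
      · rw [h4 k (fun e => hi (e ▸ hk)) fun e => hl.2 (e ▸ hk)]; exact h k hk
  obtain ⟨e, he, h⟩ := h1 (Finset.univ.erase l) (by simp)
  by_cases hs : IsSquare (Q (e l))
  · obtain ⟨c, hc⟩ := hs
    have hc0 : c ≠ 0 := fun h0 => he.ne l (by rw [hc, h0, mul_zero])
    let d : Fin (finrank K V) → K := fun i => if i = l then c⁻¹ else 1
    have hd : ∀ i, d i ≠ 0 := fun i => by
      simp only [d]; split_ifs
      exacts [inv_ne_zero hc0, one_ne_zero]
    have hq : ∀ i, Q (d i • e i) = 1 := fun i => by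
      rw [QuadraticMap.map_smul, smul_eq_mul]
      by_cases hi : i = l
      · subst hi; simp only [d, if_true, hc]; field_simp
      · simp [d, hi, h i (by simp [hi])]
    refine ⟨fun i => d i • e i, ⟨fun i j hij => ?_, fun i => by rw [hq]; exact one_ne_zero,
      fun x hx => he.zero x fun i => ?_⟩, fun i => Or.inl (hq i)⟩
    · rw [polar_smul_left, polar_smul_right, he.orth i j hij]; simp
    · have := hx i
      rw [polar_smul_right, smul_eq_mul] at this
      exact (mul_eq_zero.1 this).resolve_left (hd i)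
  · refine ⟨e, he, fun i => ?_⟩
    by_cases hi : i = l
    · subst hi; exact Or.inr ⟨rfl, hs⟩
    · exact Or.inl (h i (by simp [hi]))

theorem comm_orefl {g : OG Q} {v : V} (h : g.1 v = v ∨ g.1 v = -v) : Commute (orefl Q v) g := by
  have := mul_orefl g v
  rcases h with h | h <;> rw [h] at this
  · exact this.symm
  · rw [orefl_neg] at this; exact this.symm

theorem comm_orefl' {v w : V} (h : polar Q v w = 0) : Commute (orefl Q v) (orefl Q w) :=
  comm_orefl (Or.inl (orefl_app_of_polar h))

/-- The product of the reflections in two frame vectors. -/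
def yy (Q : QuadraticForm K V) (e : J → V) (i j : J) : OG Q := orefl Q (e i) * orefl Q (e j)

theorem OFr.r_comm {e : J → V} (h : OFr Q e) (i j : J) : Commute (orefl Q (e i)) (orefl Q (e j)) := by
  by_cases hij : i = j
  · subst hij; exact Commute.refl _
  · exact comm_orefl' (h.orth i j hij)

theorem OFr.yy_app {e : J → V} (h : OFr Q e) {i j k : J} (hi : k ≠ i) (hj : k ≠ j) : (yy Q e i j).1 (e k) = e k := by
  rw [yy, OG.mul_app, orefl_app_of_polar (h.orth k j hj), orefl_app_of_polar (h.orth k i hi)]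

theorem OFr.yy_left {e : J → V} (h : OFr Q e) {i j : J} (hij : i ≠ j) : (yy Q e i j).1 (e i) = -e i := by
  rw [yy, OG.mul_app, orefl_app_of_polar (h.orth i j hij), orefl_app_self (h.ne i)]

theorem OFr.yy_right {e : J → V} (h : OFr Q e) {i j : J} (hij : i ≠ j) : (yy Q e i j).1 (e j) = -e j := by
  rw [yy, (h.r_comm i j).eq]; exact h.yy_left hij.symm

theorem polar_zero_of {y : OG Q} (h2 : (2 : K) ≠ 0) {v w : V} (hv : y.1 v = -v) (hw : y.1 w = w) :
    polar Q v w = 0 := by
  have := OG.polar_app y v w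
  rw [hv, hw, polar_neg_left] at this
  exact (mul_eq_zero.1 (show 2 * polar Q v w = 0 by linear_combination -this)).resolve_left h2

theorem OFr.not_anti {e : J → V} (h : OFr Q e) (h2 : (2 : K) ≠ 0) {g : OG Q} {i j : J} (hij : i ≠ j)
    (hi : Q (e i) = 1) (hj : Q (e j) = 1) {k : Fin 3 → J} (hk : Function.Injective k) (hki : ∀ t, k t ≠ i)
    (hkj : ∀ t, k t ≠ j) (hq : ∀ t, Q (e (k t)) = 1) (hg : yy Q e i j * g = OG.negOne Q * (g * yy Q e i j)) :
    False := by
  have hii : polar Q (e i) (e i) = 2 := by rw [polar_self, hi]; simp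
  have hjj : polar Q (e j) (e j) = 2 := by rw [polar_self, hj]; simp
  have h1 : ∀ t, (yy Q e i j).1 (g.1 (e (k t))) = -g.1 (e (k t)) := fun t => by
    rw [← OG.mul_app, hg, OG.mul_app, OG.negOne_app, OG.mul_app, h.yy_app (hki t) (hkj t)]
  have h3 : ∀ t, (2 : K) • g.1 (e (k t)) = polar Q (g.1 (e (k t))) (e i) • e i + polar Q (g.1 (e (k t))) (e j) • e j :=
    fun t => sub_eq_zero.1 (h.zero _ fun m => by
      simp only [polar_sub_left, polar_add_left, polar_smul_left, smul_eq_mul]
      by_cases hmi : m = i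
      · subst hmi; rw [hii, h.orth j m hij.symm]; ring
      · by_cases hmj : m = j
        · subst hmj; rw [hjj, h.orth i m hij]; ring
        · rw [polar_zero_of h2 (h1 t) (h.yy_app hmi hmj), h.orth i m (Ne.symm hmi), h.orth j m (Ne.symm hmj)]
          ring)
  have h4 : ∀ s t, 2 * polar Q (e (k s)) (e (k t)) = polar Q (g.1 (e (k s))) (e i) * polar Q (g.1 (e (k t))) (e i) +
      polar Q (g.1 (e (k s))) (e j) * polar Q (g.1 (e (k t))) (e j) := fun s t => by
    rw [← OG.polar_app g, ← smul_eq_mul, ← polar_smul_left, h3 s, polar_add_left, polar_smul_left, polar_smul_left,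
      polar_comm Q (e i), polar_comm Q (e j)]
    rfl
  have h5 : ∀ t, polar Q (e (k t)) (e (k t)) = 2 := fun t => by rw [polar_self, hq]; simp
  have a0 := h4 0 0
  have a1 := h4 1 1
  have a2 := h4 2 2
  have b1 := h4 0 1
  have b2 := h4 0 2
  have b3 := h4 1 2
  rw [h5] at a0 a1 a2
  rw [h.orth _ _ (hk.ne (by decide))] at b1 b2 b3
  generalize polar Q (g.1 (e (k 0))) (e i) = x0 at *
  generalize polar Q (g.1 (e (k 1))) (e i) = x1 at *
  generalize polar Q (g.1 (e (k 2))) (e i) = x2 at *
  generalize polar Q (g.1 (e (k 0))) (e j) = y0 at *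
  generalize polar Q (g.1 (e (k 1))) (e j) = y1 at *
  generalize polar Q (g.1 (e (k 2))) (e j) = y2 at *
  have c1 : (2 * 2) * (x1 * y2 - x2 * y1) = 0 := by
    linear_combination (x1 * y2 - x2 * y1) * a0 - (x0 * y2 - y0 * x2) * b1 + (x0 * y1 - y0 * x1) * b2
  have c2 : x1 * y2 - x2 * y1 = 0 := (mul_eq_zero.1 c1).resolve_left (mul_ne_zero h2 h2)
  have c3 : (2 * 2 : K) * (2 * 2) = 0 := by
    linear_combination (2 * 2) * a1 + (x1 * x1 + y1 * y1) * a2 - (x1 * x2 + y1 * y2) * b3 + (x1 * y2 - x2 * y1) * c2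
  exact mul_ne_zero (mul_ne_zero h2 h2) (mul_ne_zero h2 h2) c3

theorem exists_three [Fintype J] (h7 : 7 ≤ Fintype.card J) (i j l : J) :
    ∃ k : Fin 3 → J, Function.Injective k ∧ ∀ t, k t ≠ i ∧ k t ≠ j ∧ k t ≠ l := by
  classical
  have h1 : Fintype.card (Fin 3) ≤ Fintype.card {x // x ∈ ({i, j, l} : Finset J)ᶜ} := by
    have := Finset.card_le_three (a := i) (b := j) (c := l)
    rw [Fintype.card_coe, Finset.card_compl, Fintype.card_fin]
    omega
  obtain ⟨f⟩ := Function.Embedding.nonempty_of_card_le h1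
  refine ⟨fun t => (f t).1, Subtype.val_injective.comp f.injective, fun t => ?_⟩
  simpa [not_or] using (f t).2

theorem OFr.sub_norm {e : J → V} (h : OFr Q e) {i j : J} (hij : i ≠ j) (hi : Q (e i) = 1) (hj : Q (e j) = 1) :
    Q (e i - e j) = 2 := by
  rw [sub_eq_add_neg, QuadraticMap.map_add Q, QuadraticMap.map_neg, polar_neg_right, h.orth i j hij, hi, hj]
  norm_num

/-- The square root of `yy i j`. -/
theorem OFr.exists_root [Finite K] [FiniteDimensional K V] {e : J → V} (h : OFr Q e) (h2 : (2 : K) ≠ 0)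
    (hQ : (polarBilin Q).Nondegenerate) {g : OG Q} (hg : ∀ i, g.1 (e i) = e i ∨ g.1 (e i) = -e i)
    {i j k l m : J} (hij : i ≠ j) (hkl : k ≠ l) (hki : k ≠ i) (hkj : k ≠ j) (hli : l ≠ i) (hlj : l ≠ j) (hmi : m ≠ i)
    (hmj : m ≠ j) (hmk : m ≠ k) (hml : m ≠ l) (hi : Q (e i) = 1) (hj : Q (e j) = 1) (hk : Q (e k) = 1)
    (hl : Q (e l) = 1) (hm : Q (e m) = 1) (h3 : g.1 (e i) = -e i) (h4 : g.1 (e j) = -e j)
    (h5 : g.1 (e k) = e k ↔ g.1 (e l) = e l) :
    ∃ v ∈ commutator (OG Q), Commute v g ∧ v * v = yy Q e i j := by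
  have n1 := h.sub_norm hij hi hj
  have n2 := h.sub_norm hkl hk hl
  have c1 : Commute (orefl Q (e i - e j)) g := comm_orefl (Or.inr (by rw [map_sub, h3, h4]; abel))
  have c2 : Commute (orefl Q (e k - e l)) g := by
    refine comm_orefl ?_
    by_cases h6 : g.1 (e k) = e k
    · left; rw [map_sub, h6, h5.1 h6]
    · right; rw [map_sub, (hg k).resolve_left h6, (hg l).resolve_left fun e => h6 (h5.2 e)]; abel
  refine ⟨orefl Q (e i) * orefl Q (e i - e j) * (orefl Q (e k - e l) * orefl Q (e m)), ?_,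
    ((comm_orefl (hg i)).mul_left c1).mul_left (c2.mul_left (comm_orefl (hg m))), ?_⟩
  · have := (prod_orefl_mem_commutator_iff hQ (not_oExc_of_two_ne_zero h2)
      (l := [e i, e i - e j, e k - e l, e m]) (by simp [hi, hm, n1, n2, h2])).2
      ⟨⟨2, rfl⟩, ⟨2, by simp [hi, hm, n1, n2]⟩⟩
    simpa [mul_assoc] using this
  · have d1 : Commute (orefl Q (e k - e l)) (orefl Q (e m)) :=
      comm_orefl' (by rw [polar_sub_left, h.orth k m hmk.symm, h.orth l m hml.symm, sub_zero])
    have d2 : Commute (orefl Q (e i) * orefl Q (e i - e j)) (orefl Q (e k - e l) * orefl Q (e m)) := by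
      refine Commute.mul_left (Commute.mul_right (comm_orefl' ?_) (comm_orefl' (h.orth i m hmi.symm)))
        (Commute.mul_right (comm_orefl' ?_) (comm_orefl' ?_))
      · rw [polar_sub_right, h.orth i k hki.symm, h.orth i l hli.symm, sub_zero]
      · simp only [polar_sub_right, polar_sub_left, h.orth i k hki.symm, h.orth i l hli.symm, h.orth j k hkj.symm,
          h.orth j l hlj.symm, sub_zero]
      · rw [polar_sub_left, h.orth i m hmi.symm, h.orth j m hmj.symm, sub_zero]
    have d3 : orefl Q (e i - e j) * orefl Q (e i) = orefl Q (e j) * orefl Q (e i - e j) := by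
      rw [mul_orefl, orefl_sub_app (hi.trans hj.symm) (by rw [n1]; exact h2)]
    rw [← pow_two, d2.mul_pow, d1.mul_pow, pow_two, pow_two, pow_two, orefl_mul_self, orefl_mul_self, mul_one, mul_one, mul_assoc,
      ← mul_assoc (orefl Q (e i - e j)), d3, mul_assoc, orefl_mul_self, mul_one, yy]

theorem key_OG [Fintype K] [FiniteDimensional K V] (h2 : (2 : K) ≠ 0) (hQ : (polarBilin Q).Nondegenerate)
    (h7 : 7 ≤ finrank K V) : Key (commutator (OG Q) ⧸ Subgroup.center (commutator (OG Q))) := by
  classical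
  obtain ⟨e, he, hq⟩ := exists_oFr h2 hQ ⟨0, by omega⟩
  set l : Fin (finrank K V) := ⟨0, by omega⟩
  have hx := not_oExc_of_two_ne_zero (Q := Q) h2
  have h7' : 7 ≤ Fintype.card (Fin (finrank K V)) := by simpa using h7
  have hq1 : ∀ i, i ≠ l → Q (e i) = 1 := fun i hi => (hq i).resolve_right fun h => hi h.1
  have hy : ∀ i j, Q (e i) = 1 → Q (e j) = 1 → yy Q e i j ∈ commutator (OG Q) := fun i j hi hj =>
    (orefl_mul_orefl_mem_commutator_iff hQ hx (he.ne i) (he.ne j)).2 (by simp [hi, hj])
  let π := QuotientGroup.mk' (Subgroup.center (commutator (OG Q)))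
  have hc : ∀ i j k m, Commute (yy Q e i j) (yy Q e k m) := fun i j k m =>
    ((he.r_comm i k).mul_right (he.r_comm i m)).mul_left ((he.r_comm j k).mul_right (he.r_comm j m))
  refine key_of_comm (J := {p : Fin (finrank K V) × Fin (finrank K V) // Q (e p.1) = 1 ∧ Q (e p.2) = 1})
    (fun p => π ⟨yy Q e p.1.1 p.1.2, hy _ _ p.2.1 p.2.2⟩) (fun p => ?_)
    (fun p q => Commute.map (Subtype.ext (hc _ _ _ _).eq) π) fun u _ _ hu => ?_
  · rw [← map_mul, ← map_one π]
    congr 1
    refine Subtype.ext ?_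
    change yy Q e _ _ * yy Q e _ _ = 1
    rw [yy, ← pow_two, (he.r_comm _ _).mul_pow, pow_two, pow_two, orefl_mul_self, orefl_mul_self, mul_one]
  obtain ⟨g, rfl⟩ := QuotientGroup.mk'_surjective _ u
  have h1 : ∀ i j, i ≠ j → Q (e i) = 1 → Q (e j) = 1 → yy Q e i j * g.1 = g.1 * yy Q e i j := by
    intro i j hij hi hj
    have h3 := (hu ⟨(i, j), hi, hj⟩).eq
    rw [← map_mul, ← map_mul, ← mul_inv_eq_one, ← map_inv, ← map_mul] at h3
    rcases (mem_center_commutator_iff hQ hx (by omega) (quad_exists_singular Q (by omega)) _).1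
      ((QuotientGroup.eq_one_iff _).1 h3) with h4 | h4
    · exact mul_inv_eq_one.1 h4
    · obtain ⟨k, hk, hk'⟩ := exists_three h7' i j l
      exact (he.not_anti h2 hij hi hj hk (fun t => (hk' t).1) (fun t => (hk' t).2.1)
        (fun t => hq1 _ (hk' t).2.2) (mul_inv_eq_iff_eq_mul.1 h4)).elim
  have h3 : ∀ i, Q (e i) = 1 → g.1.1 (e i) = e i ∨ g.1.1 (e i) = -e i := fun i hi =>
    he.eig h2 (fun k hk => by
      obtain ⟨j, -, hj⟩ := exists_three h7' i k l
      have hij := (hj 0).1.symm
      refine polar_zero_of h2 (y := yy Q e i (j 0)) ?_ (he.yy_app hk (hj 0).2.1.symm)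
      rw [← OG.mul_app, h1 i _ hij hi (hq1 _ (hj 0).2.2), OG.mul_app, he.yy_left hij, map_neg]) (OG.map_app _ _)
  have h4 : ∀ i, g.1.1 (e i) = e i ∨ g.1.1 (e i) = -e i := fun i => by
    by_cases hi : i = l
    · refine he.eig h2 (fun k hk => ?_) (OG.map_app _ _)
      have := OG.polar_app g.1 (e i) (e k)
      rw [he.orth i k hk.symm] at this
      rcases h3 k (hq1 k (hi ▸ hk)) with h | h <;> rw [h] at this
      · exact this
      · rwa [polar_neg_right, neg_eq_zero] at this
    · exact h3 i (hq1 i hi)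
  let M : Subgroup (OG Q) := ((SqC (π g)).comap π).map (commutator (OG Q)).subtype
  have h5 : ∀ i j, i ≠ j → Q (e i) = 1 → Q (e j) = 1 → g.1.1 (e i) = -e i → g.1.1 (e j) = -e j → yy Q e i j ∈ M := by
    intro i j hij hi hj gi gj
    obtain ⟨k, hk, hk'⟩ := exists_three h7' i j l
    have key : ∀ a b c : Fin 3, a ≠ b → c ≠ a → c ≠ b → (g.1.1 (e (k a)) = e (k a) ↔ g.1.1 (e (k b)) = e (k b)) →
        yy Q e i j ∈ M := fun a b c hab hca hcb hs => by
      obtain ⟨v, hv, hv1, hv2⟩ := he.exists_root h2 hQ h4 hij (hk.ne hab) (hk' a).1 (hk' a).2.1 (hk' b).1 (hk' b).2.1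
        (hk' c).1 (hk' c).2.1 (hk.ne hca) (hk.ne hcb) hi hj (hq1 _ (hk' a).2.2) (hq1 _ (hk' b).2.2)
        (hq1 _ (hk' c).2.2) gi gj hs
      refine ⟨⟨v, hv⟩ * ⟨v, hv⟩, ?_, hv2⟩
      change π _ ∈ SqC (π g)
      rw [map_mul]
      exact sq_mem (Commute.map (Subtype.ext hv1.eq) π)
    by_cases a : g.1.1 (e (k 0)) = e (k 0) ↔ g.1.1 (e (k 1)) = e (k 1)
    · exact key 0 1 2 (by decide) (by decide) (by decide) a
    · by_cases b : g.1.1 (e (k 0)) = e (k 0) ↔ g.1.1 (e (k 2)) = e (k 2)
      · exact key 0 2 1 (by decide) (by decide) (by decide) b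
      · exact key 1 2 0 (by decide) (by decide) (by decide) (by tauto)
  have h6 : ∀ (n : ℕ) (S : Finset (Fin (finrank K V))), S.card = n → (∀ i ∈ S, g.1.1 (e i) = -e i) →
      ∀ w ∈ commutator (OG Q), (∀ i ∈ S, w.1 (e i) = -e i) → (∀ i ∉ S, w.1 (e i) = e i) → w ∈ M := by
    intro n
    induction n using Nat.strong_induction_on with
    | _ n ih =>
      intro S hS hg w hw w1 w2
      by_cases hp : ∃ i ∈ S, ∃ j ∈ S, i ≠ j
      · obtain ⟨i, hi, j, hj, hij⟩ := hp
        by_cases hp' : ∃ i ∈ S, ∃ j ∈ S, i ≠ j ∧ Q (e i) = 1 ∧ Q (e j) = 1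
        · obtain ⟨i, hi, j, hj, hij, qi, qj⟩ := hp'
          have h8 := ih _ (by
            rw [← hS]; exact (Finset.card_le_card (Finset.erase_subset _ _)).trans_lt (Finset.card_erase_lt_of_mem hi))
            ((S.erase i).erase j) rfl
            (fun k hk => hg k (Finset.mem_of_mem_erase (Finset.mem_of_mem_erase hk)))
            (w * yy Q e i j) (mul_mem hw (hy i j qi qj)) (fun k hk => by
              simp only [Finset.mem_erase] at hk
              rw [OG.mul_app, he.yy_app hk.2.1 hk.1, w1 k hk.2.2]) (fun k hk => by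
              rw [OG.mul_app]
              by_cases hki : k = i
              · subst hki; rw [he.yy_left hij, map_neg, w1 k hi, neg_neg]
              · by_cases hkj : k = j
                · subst hkj; rw [he.yy_right hij, map_neg, w1 k hj, neg_neg]
                · rw [he.yy_app hki hkj, w2 k fun h => hk (by simp [hki, hkj, h])])
          exact (M.mul_mem_cancel_right (h5 i j hij qi qj (hg i hi) (hg j hj))).1 h8
        · exfalso
          push Not at hp'
          have h8 : ∀ i ∈ S, i ≠ l → l ∈ S → False := fun i hi hil hl => by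
            have hl' : ¬ IsSquare (Q (e l)) :=
              ((hq l).resolve_left (hp' i hi l hl hil (hq1 i hil))).2
            have h9 : w = yy Q e i l := he.ext fun k => by
              by_cases hki : k = i
              · subst hki; rw [he.yy_left hil, w1 k hi]
              · by_cases hkl : k = l
                · subst hkl; rw [he.yy_right hil, w1 _ hl]
                · rw [he.yy_app hki hkl, w2 k fun h => hp' i hi k h (Ne.symm hki) (hq1 i hil) (hq1 k hkl)]
            rw [h9, yy, orefl_mul_orefl_mem_commutator_iff hQ hx (he.ne i) (he.ne l), hq1 i hil, one_mul] at hw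
            exact hl' hw
          by_cases hil : i = l
          · exact h8 j hj (fun h => hij (hil.trans h.symm)) (hil ▸ hi)
          · by_cases hjl : j = l
            · exact h8 i hi hil (hjl ▸ hj)
            · exact hp' i hi j hj hij (hq1 i hil) (hq1 j hjl)
      · push Not at hp
        rcases S.eq_empty_or_nonempty with rfl | ⟨i, hi⟩
        · rw [show w = 1 from he.ext fun k => w2 k (by simp)]
          exact one_mem _
        · exfalso
          have h9 : w = orefl Q (e i) := he.ext fun k => by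
            by_cases hki : k = i
            · subst hki; rw [orefl_app_self (he.ne k), w1 k hi]
            · rw [orefl_app_of_polar (he.orth k i hki), w2 k fun h => hki (hp k h i hi)]
          rw [h9, mem_commutator_OG_iff_of_two_ne_zero hQ h2, det_orefl (he.ne i)] at hw
          exact h2 (by linear_combination -hw.1)
  obtain ⟨w, hw, hw'⟩ := h6 _ (Finset.univ.filter fun i => g.1.1 (e i) = -e i) rfl (fun i hi => by simpa using hi)
    g.1 g.2 (fun i hi => by simpa using hi) fun i hi => (h4 i).resolve_right (by simpa using hi)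
  rw [show w = g from Subtype.ext hw'] at hw
  exact hw

end Frame

theorem key_orth {K : Type*} [Field K] [Fintype K] (h2 : (2 : K) ≠ 0) {ι : Type} [Fintype ι] [DecidableEq ι]
    (Q : QuadraticForm K (ι → K)) (hQ : (QuadraticMap.polarBilin Q).Nondegenerate) (h7 : 7 ≤ Fintype.card ι) :
    Key (POmega K ⇑Q) :=
  Key.of_equiv (pomegaEquivOG Q) (key_OG h2 hQ (by rwa [finrank_fintype_fun_eq_card]))

end Cfsg.Agent.Dz
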